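import Groth.Agent.ZetaLib.RingCount
import Groth.Agent.ZetaLib.SchemeCount
import Groth.Agent.VarDim.Basic
import Mathlib.RingTheory.Localization.Away.Basic
import Mathlib.RingTheory.KrullDimension.NonZeroDivisors
import Mathlib.RingTheory.Flat.Basic
import Mathlib.RingTheory.Ideal.MinimalPrime.Localization
import Mathlib.FieldTheory.IsAlgClosed.AlgebraicClosure
import Mathlib.RingTheory.Localization.BaseChange
import Mathlib.RingTheory.AlgebraicIndependent.TranscendenceBasis

/-!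
Two finitely generated algebras with the same fraction field: rational points up to those of a
lower dimensional set, dimension, and the minimal primes after extension to the algebraic closure.
-/

noncomputable section

universe u v

open scoped TensorProduct

namespace Groth.Agent.LangWeil75

variable {k : Type u} [Field k] {A B : Type u} [CommRing A] [CommRing B] [Algebra k A] [Algebra k B]

/-- The minimal primes after extension to the algebraic closure. -/
def geomNum (k : Type u) [Field k] (A : Type u) [CommRing A] [Algebra k A] : ℕ :=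
  Nat.card (minimalPrimes (AlgebraicClosure k ⊗[k] A))

omit [Field k] in
theorem card_minimalPrimes_of_bijective {R S : Type u} [CommRing R] [CommRing S] (f : R →+* S)
    (hf : Function.Bijective f) : Nat.card (minimalPrimes R) = Nat.card (minimalPrimes S) := by
  show Nat.card (⊥ : Ideal R).minimalPrimes = Nat.card (⊥ : Ideal S).minimalPrimes
  rw [← (RingHom.injective_iff_ker_eq_bot f).1 hf.1, RingHom.ker_eq_comap_bot,
    Ideal.comap_minimalPrimes_eq_of_surjective hf.2]
  exact Nat.card_image_of_injective (Ideal.comap_injective_of_surjective _ hf.2) _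

theorem geomNum_congr (e : A ≃ₐ[k] B) : geomNum k A = geomNum k B := by
  exact card_minimalPrimes_of_bijective
    (Algebra.TensorProduct.congr (AlgEquiv.refl (R := k) (A₁ := AlgebraicClosure k)) e).toRingEquiv.toRingHom
    (Algebra.TensorProduct.congr (AlgEquiv.refl (R := k) (A₁ := AlgebraicClosure k)) e).bijective

theorem geomNum_away [IsDomain A] {a : A} (ha : a ≠ 0) :
    geomNum k A = geomNum k (Localization.Away a) := by
  let T := AlgebraicClosure k
  let s : T ⊗[k] A := (1 : T) ⊗ₜ a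
  have hs : s ∈ nonZeroDivisors (T ⊗[k] A) := by
    have hinj : Function.Injective (LinearMap.lTensor T (LinearMap.mulLeft k a)) :=
      Module.Flat.lTensor_preserves_injective_linearMap _ (mul_right_injective₀ ha)
    have hmul : ∀ x, LinearMap.lTensor T (LinearMap.mulLeft k a) x = s * x := fun x => by
      induction x using TensorProduct.induction_on with
      | zero => simp
      | tmul t y => simp [s]
      | add x y hx hy => rw [map_add, hx, hy, mul_add]
    refine mem_nonZeroDivisors_iff_right.2 fun x hx => hinj ?_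
    rw [hmul, map_zero, mul_comm, hx]
  let C := Localization.Away s
  haveI : IsLocalization ((Submonoid.powers a).map (Algebra.TensorProduct.includeRight (R := k) (A := T))) C := by
    rw [Submonoid.map_powers]
    exact (inferInstance : IsLocalization.Away s C)
  let e : T ⊗[k] Localization.Away a ≃ₐ[T] C :=
    IsLocalization.tensorProductEquivOfMapIncludeRight k T (Submonoid.powers a) (Localization.Away a) C
  have hC : Nat.card (minimalPrimes (T ⊗[k] Localization.Away a)) = Nat.card (minimalPrimes C) :=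
    card_minimalPrimes_of_bijective e.toRingEquiv.toRingHom e.bijective
  show Nat.card (minimalPrimes (T ⊗[k] A)) = Nat.card (minimalPrimes (T ⊗[k] Localization.Away a))
  rw [hC]
  have hbot : (⊥ : Ideal C).comap (algebraMap (T ⊗[k] A) C) = ⊥ := by
    rw [← RingHom.ker_eq_comap_bot]
    exact (RingHom.injective_iff_ker_eq_bot _).1
      (IsLocalization.injective (M := Submonoid.powers s) C (Submonoid.powers_le.2 hs))
  have h := IsLocalization.minimalPrimes_comap (Submonoid.powers s) C (⊥ : Ideal C)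
  rw [hbot] at h
  show Nat.card (⊥ : Ideal (T ⊗[k] A)).minimalPrimes = Nat.card (⊥ : Ideal C).minimalPrimes
  rw [h]
  refine Nat.card_image_of_injective (fun p q hpq => ?_) _
  rw [← IsLocalization.map_under (Submonoid.powers s) C p, ← IsLocalization.map_under (Submonoid.powers s) C q]
  exact congrArg (Ideal.map _) hpq

variable [Finite k]

/-- Rational points of an algebra of dimension at most `d`. -/
theorem exists_card_algHom_le [Algebra.FiniteType k A] (d : ℕ) (hd : ringKrullDim A ≤ d) :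
    ∃ c : ℕ, ∀ (F : Type u) [Field F] [Algebra k F] [Finite F],
      Finite (A →ₐ[k] F) ∧ Nat.card (A →ₐ[k] F) ≤ c * Nat.card F ^ d := by
  haveI : Algebra.FiniteType ℤ A := by
    haveI : Algebra.FiniteType ℤ k := ⟨⟨(Set.toFinite (Set.univ : Set k)).toFinset,
      eq_top_iff.2 fun x _ => Algebra.subset_adjoin (by simp)⟩⟩
    exact Algebra.FiniteType.trans (inferInstance : Algebra.FiniteType ℤ k) inferInstance
  obtain ⟨p, hp⟩ := CharP.exists k
  haveI : Fact p.Prime := ⟨CharP.char_is_prime k p⟩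
  obtain ⟨c, hc⟩ := ZetaLib.exists_bound_prime.{u, u} (A := A) d hd p
  refine ⟨c, fun F _ _ _ => ?_⟩
  haveI : CharP F p := charP_of_injective_algebraMap (algebraMap k F).injective p
  obtain ⟨hfin, hle⟩ := hc F
  haveI := hfin
  have hinj : Function.Injective (fun φ : A →ₐ[k] F => (φ : A →+* F)) := AlgHom.coe_ringHom_injective
  exact ⟨Finite.of_injective _ hinj, (Nat.card_le_card_of_injective _ hinj).trans hle⟩

/-- Points off the zeros of a nonzero element miss few points. -/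
theorem exists_card_zero_le [IsDomain A] [Algebra.FiniteType k A] (r : ℕ) (hr : ringKrullDim A = r) {a : A}
    (ha : a ≠ 0) :
    ∃ c : ℕ, ∀ (F : Type u) [Field F] [Algebra k F] [Finite F],
      Nat.card {φ : A →ₐ[k] F // φ a = 0} * Nat.card F ≤ c * Nat.card F ^ r := by
  by_cases hu : IsUnit a
  · refine ⟨0, fun F _ _ _ => ?_⟩
    haveI : IsEmpty {φ : A →ₐ[k] F // φ a = 0} := ⟨fun φ => (hu.map φ.1).ne_zero φ.2⟩
    simp
  have h1 := ringKrullDim_quotient_succ_le_of_nonZeroDivisor (mem_nonZeroDivisors_of_ne_zero ha)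
  rw [hr] at h1
  haveI : Nontrivial (A ⧸ Ideal.span {a}) := Ideal.Quotient.nontrivial_iff.2
    (mt Ideal.span_singleton_eq_top.1 hu)
  have h0 : (0 : WithBot ℕ∞) ≤ ringKrullDim (A ⧸ Ideal.span {a}) := ringKrullDim_nonneg_of_nontrivial
  rcases r with - | r
  · exfalso
    have h2 : (0 : WithBot ℕ∞) + 1 ≤ 0 := (add_le_add h0 le_rfl).trans h1
    exact absurd h2 (by decide)
  have h3 : ringKrullDim (A ⧸ Ideal.span {a}) ≤ r := by
    rw [Nat.cast_succ] at h1
    revert h1
    generalize ringKrullDim (A ⧸ Ideal.span {a}) = x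
    intro h1
    induction x using WithBot.recBotCoe with
    | bot => exact bot_le
    | coe x =>
      change ((x + 1 : ℕ∞) : WithBot ℕ∞) ≤ (((r : ℕ∞) + 1 : ℕ∞) : WithBot ℕ∞) at h1
      exact WithBot.coe_le_coe.2 ((ENat.add_le_add_iff_right ENat.one_ne_top).1 (WithBot.coe_le_coe.1 h1))
  obtain ⟨c, hc⟩ := exists_card_algHom_le (k := k) (A := A ⧸ Ideal.span {a}) r h3
  refine ⟨c, fun F _ _ _ => ?_⟩
  obtain ⟨hfin, hle⟩ := hc F
  have hlift : ∀ φ : {φ : A →ₐ[k] F // φ a = 0}, ∀ x ∈ Ideal.span {a}, φ.1 x = 0 := fun φ x hx => by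
    obtain ⟨y, rfl⟩ := Ideal.mem_span_singleton'.1 hx
    rw [map_mul, φ.2, mul_zero]
  have : Nat.card {φ : A →ₐ[k] F // φ a = 0} ≤ Nat.card ((A ⧸ Ideal.span {a}) →ₐ[k] F) :=
    Nat.card_le_card_of_injective (fun φ => Ideal.Quotient.liftₐ _ φ.1 (hlift φ)) fun φ φ' h =>
      Subtype.ext (AlgHom.ext fun x => (AlgHom.congr_fun h (Ideal.Quotient.mk _ x) :))
  rw [pow_succ, ← mul_assoc]
  exact Nat.mul_le_mul_right _ (this.trans hle)

omit [Finite k] in
/-- Points of a localization. -/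
def awayHomEquiv (a : A) (F : Type u) [Field F] [Algebra k F] :
    {φ : A →ₐ[k] F // φ a ≠ 0} ≃ (Localization.Away a →ₐ[k] F) where
  toFun φ := IsLocalization.liftAlgHom (M := Submonoid.powers a) (f := φ.1) (fun y => by
    obtain ⟨n, hn⟩ := y.2
    rw [← hn, map_pow]
    exact (isUnit_iff_ne_zero.2 φ.2).pow n)
  invFun ψ := ⟨ψ.comp (IsScalarTower.toAlgHom k A (Localization.Away a)),
    ((IsLocalization.Away.algebraMap_isUnit (S := Localization.Away a) a).map ψ).ne_zero⟩
  left_inv φ := Subtype.ext (AlgHom.ext fun x => IsLocalization.lift_eq _ x)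
  right_inv ψ := IsLocalization.algHom_ext (Submonoid.powers a) (AlgHom.ext fun x => IsLocalization.lift_eq _ x)

omit [Finite k] in
theorem exists_away_equiv [IsDomain A] [IsDomain B] [Algebra.FiniteType k A] [Algebra.FiniteType k B]
    {K : Type u} [Field K] [Algebra k K] (iA : A →ₐ[k] K) (iB : B →ₐ[k] K) (hA : Function.Injective iA)
    (hB : Function.Injective iB) (hAf : ∀ z, ∃ x y, y ≠ 0 ∧ z = iA x / iA y)
    (hBf : ∀ z, ∃ x y, y ≠ 0 ∧ z = iB x / iB y) :
    ∃ (a : A) (b : B), a ≠ 0 ∧ b ≠ 0 ∧ Nonempty (Localization.Away a ≃ₐ[k] Localization.Away b) := by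
  classical
  -- `ad i a`: the subalgebra generated by the image and the inverse of `a`
  have hden : ∀ {A B : Type u} [CommRing A] [CommRing B] [IsDomain A] [Algebra k A] [Algebra k B]
      [Algebra.FiniteType k B] (iA : A →ₐ[k] K) (iB : B →ₐ[k] K), Function.Injective iA →
      (∀ z, ∃ x y, y ≠ 0 ∧ z = iA x / iA y) →
      ∃ a : A, a ≠ 0 ∧ ∀ x : B, ∃ (n : ℕ) (u : A), iB x * iA a ^ n = iA u := by
    intro A B _ _ _ _ _ _ iA iB hA hAf
    obtain ⟨gens, hgens⟩ := Algebra.FiniteType.out (R := k) (A := B)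
    choose nu de hde hq using fun x : B => hAf (iB x)
    refine ⟨∏ g ∈ gens, de g, Finset.prod_ne_zero_iff.2 fun g _ => hde g, fun x => ?_⟩
    refine Algebra.adjoin_induction (p := fun x _ => ∃ (n : ℕ) (u : A), iB x * iA (∏ g ∈ gens, de g) ^ n = iA u)
      (fun g hg => ?_) (fun r => ⟨0, algebraMap k A r, by simp⟩) ?_ ?_ (hgens.ge (Algebra.mem_top (x := x)))
    · refine ⟨1, nu g * ∏ g' ∈ gens.erase g, de g', ?_⟩
      rw [pow_one, map_mul, ← Finset.mul_prod_erase gens de hg, map_mul, ← mul_assoc, hq g,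
        div_mul_cancel₀ _ ((map_ne_zero_iff iA hA).2 (hde g))]
    · rintro x y _ _ ⟨m, u, hu⟩ ⟨n, w, hw⟩
      refine ⟨m + n, u * (∏ g ∈ gens, de g) ^ n + w * (∏ g ∈ gens, de g) ^ m, ?_⟩
      rw [map_add, map_add, map_mul, map_mul, ← hu, ← hw, map_pow, map_pow]
      ring
    · rintro x y _ _ ⟨m, u, hu⟩ ⟨n, w, hw⟩
      exact ⟨m + n, u * w, by rw [map_mul, map_mul, ← hu, ← hw]; ring⟩
  obtain ⟨a₀, ha₀, hBA⟩ := hden iA iB hA hAf
  obtain ⟨b₀, hb₀, hAB⟩ := hden iB iA hB hBf
  obtain ⟨l, α, hα⟩ := hBA b₀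
  obtain ⟨n, p, hp⟩ := hAB a₀
  have hiA : ∀ {x}, x ≠ 0 → iA x ≠ 0 := fun h => (map_ne_zero_iff iA hA).2 h
  have hiB : ∀ {x}, x ≠ 0 → iB x ≠ 0 := fun h => (map_ne_zero_iff iB hB).2 h
  have hα0 : α ≠ 0 := fun h => mul_ne_zero (hiB hb₀) (pow_ne_zero l (hiA ha₀)) (by rw [hα, h, map_zero])
  have hp0 : p ≠ 0 := fun h => mul_ne_zero (hiA ha₀) (pow_ne_zero n (hiB hb₀)) (by rw [hp, h, map_zero])
  set a := a₀ * α
  set b := b₀ * p
  have ha : a ≠ 0 := mul_ne_zero ha₀ hα0
  have hb : b ≠ 0 := mul_ne_zero hb₀ hp0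
  let SA : Subalgebra k K := Algebra.adjoin k (insert (iA a)⁻¹ (Set.range iA))
  let SB : Subalgebra k K := Algebra.adjoin k (insert (iB b)⁻¹ (Set.range iB))
  have hAmem : ∀ x, iA x ∈ SA := fun x => Algebra.subset_adjoin (Or.inr ⟨x, rfl⟩)
  have hBmem : ∀ x, iB x ∈ SB := fun x => Algebra.subset_adjoin (Or.inr ⟨x, rfl⟩)
  have hainv : (iA a)⁻¹ ∈ SA := Algebra.subset_adjoin (Or.inl rfl)
  have hbinv : (iB b)⁻¹ ∈ SB := Algebra.subset_adjoin (Or.inl rfl)
  have ha₀inv : (iA a₀)⁻¹ ∈ SA := by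
    have : (iA a₀)⁻¹ = (iA a)⁻¹ * iA α := by
      rw [map_mul, mul_inv, mul_assoc, inv_mul_cancel₀ (hiA hα0), mul_one]
    rw [this]; exact mul_mem hainv (hAmem _)
  have hαinv : (iA α)⁻¹ ∈ SA := by
    have : (iA α)⁻¹ = (iA a)⁻¹ * iA a₀ := by
      rw [map_mul, mul_inv, mul_comm (iA a₀)⁻¹, mul_assoc, inv_mul_cancel₀ (hiA ha₀), mul_one]
    rw [this]; exact mul_mem hainv (hAmem _)
  have hb₀inv : (iB b₀)⁻¹ ∈ SB := by
    have : (iB b₀)⁻¹ = (iB b)⁻¹ * iB p := by
      rw [map_mul, mul_inv, mul_assoc, inv_mul_cancel₀ (hiB hp0), mul_one]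
    rw [this]; exact mul_mem hbinv (hBmem _)
  have hpinv : (iB p)⁻¹ ∈ SB := by
    have : (iB p)⁻¹ = (iB b)⁻¹ * iB b₀ := by
      rw [map_mul, mul_inv, mul_comm (iB b₀)⁻¹, mul_assoc, inv_mul_cancel₀ (hiB hb₀), mul_one]
    rw [this]; exact mul_mem hbinv (hBmem _)
  have hBsub : ∀ x, iB x ∈ SA := fun x => by
    obtain ⟨m, u, hu⟩ := hBA x
    have : iB x = iA u * (iA a₀)⁻¹ ^ m := by
      rw [← hu, inv_pow, mul_assoc, mul_inv_cancel₀ (pow_ne_zero m (hiA ha₀)), mul_one]
    rw [this]; exact mul_mem (hAmem _) (pow_mem ha₀inv _)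
  have hAsub : ∀ x, iA x ∈ SB := fun x => by
    obtain ⟨m, u, hu⟩ := hAB x
    have : iA x = iB u * (iB b₀)⁻¹ ^ m := by
      rw [← hu, inv_pow, mul_assoc, mul_inv_cancel₀ (pow_ne_zero m (hiB hb₀)), mul_one]
    rw [this]; exact mul_mem (hBmem _) (pow_mem hb₀inv _)
  have hSS : SA = SB := by
    refine le_antisymm (Algebra.adjoin_le ?_) (Algebra.adjoin_le ?_)
    · rintro _ (rfl | ⟨x, rfl⟩)
      · show (iA a)⁻¹ ∈ SB
        have h1 : (iA a₀)⁻¹ = iB b₀ ^ n * (iB p)⁻¹ := by
          rw [← hp, mul_inv, mul_comm (iA a₀)⁻¹, ← mul_assoc, mul_inv_cancel₀ (pow_ne_zero n (hiB hb₀)), one_mul]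
        have h2 : (iA α)⁻¹ = (iB b₀)⁻¹ * (iA a₀)⁻¹ ^ l := by rw [← hα, mul_inv, inv_pow]
        rw [map_mul, mul_inv, h2, h1]
        exact mul_mem (mul_mem (pow_mem (hBmem _) _) hpinv)
          (mul_mem hb₀inv (pow_mem (mul_mem (pow_mem (hBmem _) _) hpinv) _))
      · exact hAsub x
    · rintro _ (rfl | ⟨x, rfl⟩)
      · show (iB b)⁻¹ ∈ SA
        have h1 : (iB b₀)⁻¹ = iA a₀ ^ l * (iA α)⁻¹ := by
          rw [← hα, mul_inv, mul_comm (iB b₀)⁻¹, ← mul_assoc, mul_inv_cancel₀ (pow_ne_zero l (hiA ha₀)), one_mul]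
        have h2 : (iB p)⁻¹ = (iA a₀)⁻¹ * (iB b₀)⁻¹ ^ n := by rw [← hp, mul_inv, inv_pow]
        rw [map_mul, mul_inv, h2, h1]
        exact mul_mem (mul_mem (pow_mem (hAmem _) _) hαinv)
          (mul_mem ha₀inv (pow_mem (mul_mem (pow_mem (hAmem _) _) hαinv) _))
      · exact hBsub x
  have key : ∀ {A : Type u} [CommRing A] [IsDomain A] [Algebra k A] (iA : A →ₐ[k] K) (_ : Function.Injective iA)
      (a : A) (_ : a ≠ 0),
      Nonempty (Localization.Away a ≃ₐ[k] Algebra.adjoin k (insert (iA a)⁻¹ (Set.range iA))) := by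
    intro A _ _ _ iA hA a ha
    have hunit : ∀ y : Submonoid.powers a, IsUnit (iA y) := fun y => by
      obtain ⟨n, hn⟩ := y.2
      rw [← hn, map_pow]
      exact (isUnit_iff_ne_zero.2 ((map_ne_zero_iff iA hA).2 ha)).pow n
    let f : Localization.Away a →ₐ[k] K := IsLocalization.liftAlgHom (M := Submonoid.powers a) (f := iA) hunit
    have hlift : ∀ x, f (algebraMap A _ x) = iA x := fun x => IsLocalization.lift_eq _ x
    have hf : Function.Injective f := by
      refine (injective_iff_map_eq_zero f).2 fun z hz => ?_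
      obtain ⟨⟨x, s⟩, hxs⟩ := IsLocalization.surj (Submonoid.powers a) z
      have h1 := congrArg f hxs
      rw [map_mul, hz, zero_mul, hlift] at h1
      have hx : x = 0 := hA (by rw [← h1, map_zero])
      rw [hx, map_zero] at hxs
      exact (IsLocalization.map_units (Localization.Away a) s).mul_left_eq_zero.1 hxs
    have hrange : f.range = Algebra.adjoin k (insert (iA a)⁻¹ (Set.range iA)) := by
      refine le_antisymm ?_ (Algebra.adjoin_le ?_)
      · rintro _ ⟨z, rfl⟩
        obtain ⟨⟨x, ⟨s, m, rfl⟩⟩, hxs⟩ := IsLocalization.surj (Submonoid.powers a) z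
        have h1 := congrArg f hxs
        simp only [map_mul, hlift, map_pow] at h1
        have h2 : f z = iA x * (iA a)⁻¹ ^ m := by
          rw [← h1, inv_pow, mul_assoc, mul_inv_cancel₀ (pow_ne_zero m ((map_ne_zero_iff iA hA).2 ha)), mul_one]
        show f z ∈ Algebra.adjoin k (insert (iA a)⁻¹ (Set.range iA))
        rw [h2]
        exact mul_mem (Algebra.subset_adjoin (Or.inr ⟨x, rfl⟩)) (pow_mem (Algebra.subset_adjoin (R := k) (s := insert (iA a)⁻¹ (Set.range iA)) (Or.inl rfl)) _)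
      · rintro _ (rfl | ⟨x, rfl⟩)
        · refine ⟨IsLocalization.Away.invSelf a, eq_inv_of_mul_eq_one_left ?_⟩
          show f (IsLocalization.Away.invSelf a) * iA a = 1
          rw [← hlift, ← map_mul, mul_comm, IsLocalization.Away.mul_invSelf, map_one]
        · exact ⟨algebraMap A _ x, hlift x⟩
    exact ⟨(AlgEquiv.ofInjective f hf).trans (Subalgebra.equivOfEq _ _ hrange)⟩
  obtain ⟨e₁⟩ := key iA hA a ha
  obtain ⟨e₂⟩ := key iB hB b hb
  exact ⟨a, b, ha, hb, ⟨e₁.trans ((Subalgebra.equivOfEq _ _ hSS).trans e₂.symm)⟩⟩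

omit [Finite k] in
theorem trdeg_eq_fraction [IsDomain A] {K : Type u} [Field K] [Algebra k K] (iA : A →ₐ[k] K)
    (hA : Function.Injective iA) (hAf : ∀ z, ∃ x y, y ≠ 0 ∧ z = iA x / iA y) :
    Algebra.trdeg k A = Algebra.trdeg k K := by
  letI : Algebra A K := iA.toRingHom.toAlgebra
  haveI : IsScalarTower k A K := IsScalarTower.of_algebraMap_eq fun x => (iA.commutes x).symm
  haveI : FaithfulSMul A K := (faithfulSMul_iff_algebraMap_injective A K).2 hA
  haveI : Algebra.IsAlgebraic A K := ⟨fun z => by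
    obtain ⟨x, y, hy, rfl⟩ := hAf z
    refine ⟨Polynomial.C y * Polynomial.X - Polynomial.C x, ?_, ?_⟩
    · intro h
      have := congrArg (fun p => Polynomial.coeff p 1) h
      simp [Polynomial.coeff_C] at this
      exact hy this
    · simp [RingHom.algebraMap_toAlgebra, mul_div_cancel₀ _ ((map_ne_zero_iff iA hA).2 hy)]⟩
  haveI : FaithfulSMul k A := (faithfulSMul_iff_algebraMap_injective k A).2 (algebraMap k A).injective
  have h : Algebra.trdeg k A + Algebra.trdeg A K = Algebra.trdeg k K := trdeg_add_eq k A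
  rwa [trdeg_eq_zero (R := A), add_zero] at h

/-- **Birational algebras.** -/
theorem exists_birational [IsDomain A] [IsDomain B] [Algebra.FiniteType k A] [Algebra.FiniteType k B]
    {K : Type u} [Field K] [Algebra k K] (iA : A →ₐ[k] K) (iB : B →ₐ[k] K) (hA : Function.Injective iA)
    (hB : Function.Injective iB) (hAf : ∀ z, ∃ x y, y ≠ 0 ∧ z = iA x / iA y)
    (hBf : ∀ z, ∃ x y, y ≠ 0 ∧ z = iB x / iB y) (r : ℕ) (hr : ringKrullDim B = r) :
    ringKrullDim A = r ∧ geomNum k A = geomNum k B ∧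
    ∃ c : ℕ, ∀ (F : Type u) [Field F] [Algebra k F] [Finite F],
      |(Nat.card (A →ₐ[k] F) : ℝ) - Nat.card (B →ₐ[k] F)| * Nat.card F ≤ c * (Nat.card F : ℝ) ^ r := by
  classical
  obtain ⟨n, hn, htn⟩ := VarDim.exists_dim_eq_trdeg k A
  obtain ⟨n', hn', htn'⟩ := VarDim.exists_dim_eq_trdeg k B
  have hnn : (n : Cardinal) = n' := by
    rw [← htn, ← htn', trdeg_eq_fraction iA hA hAf, trdeg_eq_fraction iB hB hBf]
  have hdim : ringKrullDim A = r := by
    rw [hn, Nat.cast_injective hnn, ← hn', hr]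
  obtain ⟨a, b, ha, hb, ⟨e⟩⟩ := exists_away_equiv iA iB hA hB hAf hBf
  refine ⟨hdim, by rw [geomNum_away (k := k) ha, geomNum_away (k := k) hb, geomNum_congr e], ?_⟩
  obtain ⟨cA, hcA⟩ := exists_card_zero_le (k := k) r hdim ha
  obtain ⟨cB, hcB⟩ := exists_card_zero_le (k := k) r hr hb
  obtain ⟨dA, hdA⟩ := exists_card_algHom_le (k := k) (A := A) r hdim.le
  obtain ⟨dB, hdB⟩ := exists_card_algHom_le (k := k) (A := B) r hr.le
  refine ⟨cA + cB, fun F _ _ _ => ?_⟩
  haveI := (hdA F).1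
  haveI := (hdB F).1
  have h1 : Nat.card (A →ₐ[k] F) =
      Nat.card {φ : A →ₐ[k] F // φ a = 0} + Nat.card (Localization.Away a →ₐ[k] F) := by
    rw [← Nat.card_congr (awayHomEquiv a F), ← Nat.card_sum,
      Nat.card_congr (Equiv.sumCompl fun φ : A →ₐ[k] F => φ a = 0)]
  have h2 : Nat.card (B →ₐ[k] F) =
      Nat.card {φ : B →ₐ[k] F // φ b = 0} + Nat.card (Localization.Away a →ₐ[k] F) := by
    rw [Nat.card_congr (e.arrowCongr AlgEquiv.refl), ← Nat.card_congr (awayHomEquiv b F), ← Nat.card_sum,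
      Nat.card_congr (Equiv.sumCompl fun φ : B →ₐ[k] F => φ b = 0)]
  have hA' : (Nat.card {φ : A →ₐ[k] F // φ a = 0} : ℝ) * Nat.card F ≤ cA * (Nat.card F : ℝ) ^ r := by
    exact_mod_cast hcA F
  have hB' : (Nat.card {φ : B →ₐ[k] F // φ b = 0} : ℝ) * Nat.card F ≤ cB * (Nat.card F : ℝ) ^ r := by
    exact_mod_cast hcB F
  rw [h1, h2, Nat.cast_add, Nat.cast_add, add_sub_add_right_eq_sub, Nat.cast_add, add_mul,
    ← abs_of_nonneg (Nat.cast_nonneg (α := ℝ) (Nat.card F)), ← abs_mul, sub_mul,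
    abs_of_nonneg (Nat.cast_nonneg (α := ℝ) (Nat.card F)), abs_le]
  have p1 : (0 : ℝ) ≤ (Nat.card {φ : A →ₐ[k] F // φ a = 0} : ℝ) * Nat.card F := by positivity
  have p2 : (0 : ℝ) ≤ (Nat.card {φ : B →ₐ[k] F // φ b = 0} : ℝ) * Nat.card F := by positivity
  have p3 : (0 : ℝ) ≤ (cA : ℝ) * (Nat.card F : ℝ) ^ r := by positivity
  have p4 : (0 : ℝ) ≤ (cB : ℝ) * (Nat.card F : ℝ) ^ r := by positivity
  constructor <;> nlinarith

end Groth.Agent.LangWeil75
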