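import Groth.Agent.LangWeil75.Geometry

/-!
**Lang–Weil for schemes of finite type over a finite field**, components of top dimension counted
with their numbers of geometric components.
-/

noncomputable section

universe u v

open CategoryTheory CategoryTheory.Limits AlgebraicGeometry TopologicalSpace

namespace Groth.Agent.LangWeil75

variable {k : Type u} [Field k] [Finite k] {X : Scheme.{u}} (f : X ⟶ Spec (CommRingCat.of k))
  [LocallyOfFiniteType f] [QuasiCompact f]

omit [Finite k] [LocallyOfFiniteType f] in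
include f in
/-- A finite affine open cover. -/
theorem exists_finite_affine_cover :
    ∃ (ι : Type u) (_ : Fintype ι) (A : ι → Type u) (_ : ∀ i, CommRing (A i))
      (j : ∀ i, Spec (CommRingCat.of (A i)) ⟶ X),
      (∀ i, IsOpenImmersion (j i)) ∧ ∀ x : X, ∃ i, x ∈ Set.range (j i) := by
  haveI : CompactSpace X := QuasiCompact.compactSpace_of_compactSpace f
  let 𝒰 := X.affineCover.finiteSubcover
  exact ⟨ULift.{u} 𝒰.I₀, inferInstance, fun i => Γ(𝒰.X i.down, ⊤), fun i => inferInstance,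
    fun i => (𝒰.X i.down).isoSpec.inv ≫ 𝒰.f i.down, fun i => inferInstance, fun x => by
      obtain ⟨y, hy⟩ := 𝒰.covers x
      exact ⟨⟨𝒰.idx x⟩, (𝒰.X (𝒰.idx x)).isoSpec.hom y, by simpa [← Scheme.Hom.comp_apply] using hy⟩⟩

/-- Points in a closed subset all of whose points have dimension less than `r`. -/
theorem exists_bound_closed {W : Set X} (hW : IsClosed W) (r : ℕ) (hd : ∀ x ∈ W, VarDim.deg f x < r) :
    ∃ c : ℕ, ∀ (F : Type u) [Field F] [Algebra k F] [Finite F],
      Finite (PtsIn f W F) ∧ Nat.card (PtsIn f W F) * Nat.card F ≤ c * Nat.card F ^ r := by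
  classical
  rcases r with - | d
  · refine ⟨0, fun F _ _ _ => ?_⟩
    haveI : IsEmpty (PtsIn f W F) := ⟨fun g => Nat.not_lt_zero _ (hd _ g.2.2)⟩
    exact ⟨inferInstance, by simp⟩
  obtain ⟨ι, hι, A, hA, j, hjo, hcov⟩ := exists_finite_affine_cover f
  letI : ∀ i, Algebra k (A i) := fun i => (Spec.preimage (j i ≫ f)).hom.toAlgebra
  have hj : ∀ i, j i ≫ f = Spec.map (CommRingCat.ofHom (algebraMap k (A i))) := fun i => (Spec.map_preimage _).symm
  haveI : ∀ i, Algebra.FiniteType k (A i) := fun i => by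
    have h : LocallyOfFiniteType (j i ≫ f) := inferInstance
    rw [hj, HasRingHomProperty.Spec_iff (P := @LocallyOfFiniteType)] at h
    exact RingHom.finiteType_algebraMap.1 h
  have hbound : ∀ i, ∃ c : ℕ, ∀ (F : Type u) [Field F] [Algebra k F] [Finite F],
      Finite (PtsIn f (W ∩ Set.range (j i)) F) ∧
        Nat.card (PtsIn f (W ∩ Set.range (j i)) F) ≤ c * Nat.card F ^ d := by
    intro i
    have hpre : IsClosed ((j i).base ⁻¹' W) := hW.preimage (j i).continuous
    obtain ⟨I, hI⟩ := (PrimeSpectrum.isClosed_iff_zeroLocus_ideal _).1 hpre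
    have hdim : ringKrullDim (A i ⧸ I) ≤ d := by
      rw [← PrimeSpectrum.topologicalKrullDim_eq_ringKrullDim]
      have hP : ∀ P, PrimeSpectrum.comap (Ideal.Quotient.mk I) P ∈ (j i).base ⁻¹' W := fun P => by
        rw [hI]
        intro a ha
        show Ideal.Quotient.mk I a ∈ P.asIdeal
        rw [Ideal.Quotient.eq_zero_iff_mem.2 ha]
        exact zero_mem _
      have hind := (PrimeSpectrum.isClosedEmbedding_comap_of_surjective _ (Ideal.Quotient.mk I)
        Ideal.Quotient.mk_surjective).isInducing.codRestrict (s := (j i).base ⁻¹' W) hP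
      refine hind.topologicalKrullDim_le.trans ?_
      haveI : LocallyOfFiniteType (Spec.map (CommRingCat.ofHom (algebraMap k (A i)))) := hj i ▸ inferInstance
      refine (VarDim.topologicalKrullDim_set_eq_iSup_deg (Spec.map (CommRingCat.ofHom (algebraMap k (A i)))) hpre).le.trans ?_
      refine iSup_le fun y => ?_
      have h2 : VarDim.deg (Spec.map (CommRingCat.ofHom (algebraMap k (A i)))) y.1 =
          VarDim.deg f ((j i) y.1) := by
        rw [← VarDim.deg_comp f (j i) y.1, hj]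
      rw [h2]
      exact_mod_cast Nat.lt_succ_iff.1 (hd _ y.2)
    obtain ⟨c, hc⟩ := exists_card_algHom_le (k := k) (A := A i ⧸ I) d hdim
    refine ⟨c, fun F _ _ _ => ?_⟩
    obtain ⟨hfin, hle⟩ := hc F
    let incl : PtsIn f (W ∩ Set.range (j i)) F → (A i →ₐ[k] F) := fun g =>
      ptsInOpenEquiv f (A i) (j i) (hj i) F ⟨g.1, g.2.1, g.2.2.2⟩
    have hincl : Function.Injective incl := fun g g' h =>
      Subtype.ext (congrArg (fun z : PtsIn f (Set.range (j i)) F => z.1)
        ((ptsInOpenEquiv f (A i) (j i) (hj i) F).injective h))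
    have hkill : ∀ g, ∀ a ∈ I, incl g a = 0 := by
      intro g a ha
      have hmem : (j i) ((Spec.map (CommRingCat.ofHom (incl g : A i →+* F))) (IsLocalRing.closedPoint F)) ∈ W := by
        have h1 : Spec.map (CommRingCat.ofHom (incl g : A i →+* F)) ≫ j i = g.1 :=
          congrArg Subtype.val ((ptsInOpenEquiv f (A i) (j i) (hj i) F).symm_apply_apply ⟨g.1, g.2.1, g.2.2.2⟩)
        have h2 := congrArg (fun t : Spec (CommRingCat.of F) ⟶ X => t (IsLocalRing.closedPoint F)) h1
        exact Set.mem_of_eq_of_mem h2 g.2.2.1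
      have hz : (Spec.map (CommRingCat.ofHom (incl g : A i →+* F))) (IsLocalRing.closedPoint F) ∈
          PrimeSpectrum.zeroLocus (I : Set (A i)) := hI ▸ hmem
      have h3 := hz ha
      change incl g a ∈ IsLocalRing.maximalIdeal F at h3
      rwa [IsLocalRing.maximalIdeal_eq_bot, Ideal.mem_bot] at h3
    haveI := hfin
    have hinj : Function.Injective (fun g => Ideal.Quotient.liftₐ I (incl g) (hkill g)) := fun g g' h =>
      hincl (AlgHom.ext fun x => (AlgHom.congr_fun h (Ideal.Quotient.mk I x) :))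
    exact ⟨Finite.of_injective _ hinj, (Nat.card_le_card_of_injective _ hinj).trans hle⟩
  choose c hc using hbound
  refine ⟨∑ i, c i, fun F _ _ _ => ?_⟩
  haveI : ∀ i, Finite (PtsIn f (W ∩ Set.range (j i)) F) := fun i => (hc i F).1
  let cover : (Σ i, PtsIn f (W ∩ Set.range (j i)) F) → PtsIn f W F := fun t => ⟨t.2.1, t.2.2.1, t.2.2.2.1⟩
  have hsurj : Function.Surjective cover := fun g => by
    obtain ⟨i, hi⟩ := hcov (g.1 (IsLocalRing.closedPoint F))
    exact ⟨⟨i, ⟨g.1, g.2.1, g.2.2, hi⟩⟩, rfl⟩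
  refine ⟨Finite.of_surjective _ hsurj, ?_⟩
  rw [pow_succ, ← mul_assoc]
  refine Nat.mul_le_mul_right _ ((Nat.card_le_card_of_surjective _ hsurj).trans ?_)
  rw [Nat.card_sigma, Finset.sum_mul]
  exact Finset.sum_le_sum fun i _ => (hc i F).2

/-- The number of geometric components of a component. -/
abbrev compNum (Z : Set X) : ℕ :=
  Nat.card (irreducibleComponents ↥((pullback.fst f (Spec.map (CommRingCat.ofHom
    (algebraMap k (AlgebraicClosure k))))).base ⁻¹' Z))

set_option maxHeartbeats 800000 in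
/-- **Lang–Weil with components.** -/
theorem exists_lang_weil (r : ℕ) (hr : topologicalKrullDim X = r) :
    ∃ S : Finset (Set X), (∀ Z, Z ∈ S ↔ Z ∈ irreducibleComponents X ∧ topologicalKrullDim Z = r) ∧
      (∀ Z ∈ S, 0 < compNum f Z) ∧ ∃ C : ℕ, ∀ (F : Type u) [Field F] [Algebra k F] [Finite F],
        |(SgaExt.pointCount f F : ℝ) - (∑ Z ∈ S with compNum f Z ∣ Module.finrank k F, compNum f Z : ℕ) *
            (Nat.card F : ℝ) ^ r| ≤ C * ((Nat.card F : ℝ) ^ r / Real.sqrt (Nat.card F)) ∧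
        ((∀ Z ∈ S, ¬ compNum f Z ∣ Module.finrank k F) →
          SgaExt.pointCount f F * Nat.card F ≤ C * Nat.card F ^ r) := by
  classical
  haveI : IsLocallyNoetherian X := LocallyOfFiniteType.isLocallyNoetherian f
  haveI : CompactSpace X := QuasiCompact.compactSpace_of_compactSpace f
  haveI : IsNoetherian X := {}
  have hfin : (irreducibleComponents X).Finite := NoetherianSpace.finite_irreducibleComponents
  let S : Finset (Set X) := hfin.toFinset.filter fun Z => topologicalKrullDim Z = r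
  have hS : ∀ Z, Z ∈ S ↔ Z ∈ irreducibleComponents X ∧ topologicalKrullDim Z = r := fun Z => by
    simp [S]
  choose U rd Cd hUZ hdisj hne hdim hpos hcount using fun Z : S => exists_piece f ((hS Z.1).1 Z.2).1
  let W : Set X := (⋃ Z : S, (U Z : Set X))ᶜ
  have hdegX : ∀ x : X, VarDim.deg f x ≤ r := fun x => by
    have h := hr.le
    rw [VarDim.topologicalKrullDim_eq_iSup_deg f] at h
    exact_mod_cast (le_iSup (fun x : X => ((VarDim.deg f x : ℕ∞) : WithBot ℕ∞)) x).trans h
  have hW : ∀ x ∈ W, VarDim.deg f x < r := by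
    intro x hx
    obtain ⟨Z, hZ, hxZ⟩ : ∃ Z ∈ irreducibleComponents X, x ∈ Z :=
      Set.mem_sUnion.1 (by rw [sUnion_irreducibleComponents]; trivial)
    obtain ⟨ξ, hξ⟩ := QuasiSober.sober hZ.1 (isClosed_of_mem_irreducibleComponents Z hZ)
    have hsp : ξ ⤳ x := hξ.specializes hxZ
    refine lt_of_le_of_ne (hdegX x) fun he => ?_
    have hξr : VarDim.deg f ξ = r :=
      le_antisymm (hdegX ξ) (he ▸ VarDim.deg_le_of_specializes f hsp)
    have hxξ : x = ξ := by
      by_contra hne'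
      have := VarDim.deg_strictMono f (lt_iff_le_not_ge.2 ⟨hsp, fun h' => hne' (hsp.antisymm h').eq.symm⟩ :
        (x : X) < ξ)
      omega
    have hZS : Z ∈ S := (hS Z).2 ⟨hZ, by
      rw [← hξ.def, VarDim.topologicalKrullDim_closure_singleton f ξ, hξr]
      rfl⟩
    refine hx (Set.mem_iUnion.2 ⟨⟨Z, hZS⟩, ?_⟩)
    rw [hxξ]
    obtain ⟨y, hy⟩ := hne ⟨Z, hZS⟩
    exact (hξ.mem_open_set_iff (U ⟨Z, hZS⟩).isOpen).2 ⟨y, hUZ ⟨Z, hZS⟩ hy, hy⟩
  have hWc : IsClosed W := (isOpen_iUnion fun Z => (U Z).isOpen).isClosed_compl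
  obtain ⟨cW, hcW⟩ := exists_bound_closed f hWc r hW
  have hrd : ∀ Z : S, rd Z = r := fun Z => by
    have := ((hS Z.1).1 Z.2).2
    rw [hdim Z] at this
    exact_mod_cast this
  refine ⟨S, hS, fun Z hZ => hpos ⟨Z, hZ⟩, cW + ∑ Z : S, Cd Z, fun F _ _ _ => ?_⟩
  haveI := (hcW F).1
  haveI : ∀ Z : S, Finite (PtsIn f (U Z : Set X) F) := fun Z => (hcount Z F).1
  let G := {g : Spec (CommRingCat.of F) ⟶ X // g ≫ f = Spec.map (CommRingCat.ofHom (algebraMap k F))}
  let tot : (Σ Z : S, PtsIn f (U Z : Set X) F) ⊕ PtsIn f W F → G :=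
    Sum.elim (fun t => ⟨t.2.1, t.2.2.1⟩) fun g => ⟨g.1, g.2.1⟩
  have hbij : Function.Bijective tot := by
    refine ⟨?_, fun g => ?_⟩
    · rintro (⟨Z, g⟩ | g) (⟨Z', g'⟩ | g') h <;> have h' := congrArg Subtype.val h <;> simp only [tot, Sum.elim_inl, Sum.elim_inr] at h'
      · obtain rfl : Z = Z' := by
          by_contra hne'
          refine Set.disjoint_left.1 (hdisj Z Z'.1 ((hS _).1 Z'.2).1 fun h => hne' (Subtype.ext h.symm))
            (hUZ Z' (h' ▸ g'.2.2)) g.2.2
        exact congrArg Sum.inl (congrArg (Sigma.mk Z) (Subtype.ext h'))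
      · exact absurd (Set.mem_iUnion.2 ⟨Z, g.2.2⟩) (h' ▸ g'.2.2 : g.1 (IsLocalRing.closedPoint F) ∈ W)
      · exact absurd (Set.mem_iUnion.2 ⟨Z', g'.2.2⟩) (h'.symm ▸ g.2.2 : g'.1 (IsLocalRing.closedPoint F) ∈ W)
      · exact congrArg Sum.inr (Subtype.ext h')
    · by_cases hg : g.1 (IsLocalRing.closedPoint F) ∈ W
      · exact ⟨Sum.inr ⟨g.1, g.2, hg⟩, rfl⟩
      · obtain ⟨Z, hZ⟩ := Set.mem_iUnion.1 (not_not.1 hg)
        exact ⟨Sum.inl ⟨Z, g.1, g.2, hZ⟩, rfl⟩
  have hN : SgaExt.pointCount f F = (∑ Z : S, Nat.card (PtsIn f (U Z : Set X) F)) + Nat.card (PtsIn f W F) := by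
    rw [SgaExt.pointCount, ← Nat.card_congr (Equiv.ofBijective tot hbij), Nat.card_sum, Nat.card_sigma]
  set Q := (Nat.card F : ℝ)
  set e := Module.finrank k F
  have hQ1 : (1 : ℝ) ≤ Q := Nat.one_le_cast.2 Nat.card_pos
  have hs : 0 < Real.sqrt Q := Real.sqrt_pos.2 (by linarith)
  have hsQ : Real.sqrt Q ≤ Q := by
    calc Real.sqrt Q ≤ Real.sqrt Q * Real.sqrt Q := le_mul_of_one_le_left hs.le (Real.one_le_sqrt.2 hQ1)
      _ = Q := Real.mul_self_sqrt (by linarith)
  have hsmall : ∀ N C : ℕ, N * Nat.card F ≤ C * Nat.card F ^ r → (N : ℝ) ≤ C * (Q ^ r / Real.sqrt Q) := by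
    intro N C h
    have h' : (N : ℝ) * Q ≤ C * Q ^ r := by simp only [Q]; exact_mod_cast h
    rw [← mul_div_assoc, le_div_iff₀ hs]
    exact le_trans (mul_le_mul_of_nonneg_left hsQ (Nat.cast_nonneg _)) h'
  constructor
  · have hterm : ∀ Z : S, |(Nat.card (PtsIn f (U Z : Set X) F) : ℝ) -
        (if compNum f Z.1 ∣ e then (compNum f Z.1 : ℝ) else 0) * Q ^ r| ≤ Cd Z * (Q ^ r / Real.sqrt Q) := fun Z => by
      obtain ⟨-, h1, h2⟩ := hcount Z F
      by_cases hdvd : compNum f Z.1 ∣ e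
      · rw [if_pos hdvd, ← hrd Z]
        exact h1 hdvd
      · rw [if_neg hdvd, zero_mul, sub_zero, abs_of_nonneg (Nat.cast_nonneg _)]
        exact hsmall _ _ (hrd Z ▸ h2 hdvd)
    have hmain : ((∑ Z ∈ S with compNum f Z ∣ e, compNum f Z : ℕ) : ℝ) =
        ∑ Z : S, if compNum f Z.1 ∣ e then (compNum f Z.1 : ℝ) else 0 := by
      rw [Finset.univ_eq_attach, Finset.sum_attach S (fun Z => if compNum f Z ∣ e then (compNum f Z : ℝ) else 0),
        ← Finset.sum_filter]
      push_cast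
      rfl
    rw [hN, hmain, Finset.sum_mul, Nat.cast_add, Nat.cast_sum, add_sub_right_comm, ← Finset.sum_sub_distrib]
    refine (abs_add_le _ _).trans ?_
    rw [Nat.cast_add, Nat.cast_sum, add_mul, add_comm ((cW : ℝ) * _), Finset.sum_mul]
    refine add_le_add ((Finset.abs_sum_le_sum_abs _ _).trans (Finset.sum_le_sum fun Z _ => hterm Z)) ?_
    rw [abs_of_nonneg (Nat.cast_nonneg _)]
    exact hsmall _ _ (hcW F).2
  · intro hall
    rw [hN, add_mul, Finset.sum_mul, add_mul, add_comm (cW * _), Finset.sum_mul]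
    exact add_le_add (Finset.sum_le_sum fun Z _ => hrd Z ▸ (hcount Z F).2.2 (hall Z.1 Z.2)) (hcW F).2

end Groth.Agent.LangWeil75
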