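import Groth.Agent.LangWeil75.CurveField
import Groth.Agent.LangWeil75.Sharp.Genus
import Groth.Agent.S11042
import Mathlib.RingTheory.LaurentSeries

/-!
The number of rational zeros of an absolutely irreducible monic plane equation of bounded degree
over a finite field `k` of `q` elements is `q + O(√q)`.
-/

noncomputable section

universe u v

namespace Groth.Agent.LangWeil75

open Polynomial FunFld WithZero Groth.Agent.FFLib Groth.Agent.AbscissaLB75

variable {k : Type u} [Field k]

/-- Translation of the first variable. -/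
def shift (t : k) : k[X][X] →+* k[X][X] := mapRingHom (aeval (X + C t : k[X])).toRingHom

theorem ev_shift {R : Type v} [CommRing R] [Algebra k R] (t : k) (x y : R) (g : k[X][X]) :
    ev x y (shift t g) = ev (x + algebraMap k R t) y g := by
  rw [ev_apply, ev_apply, shift, coe_mapRingHom, eval₂_map]
  congr 1
  refine RingHom.ext fun a => ?_
  show aeval x (aeval (X + C t : k[X]) a) = _
  rw [← aeval_algHom_apply]
  simp

theorem derivative_shift (t : k) (g : k[X][X]) : derivative (shift t g) = shift t (derivative g) := by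
  rw [shift, coe_mapRingHom, derivative_map]

theorem card_rootSet_fibre {D : ℕ} [Finite k] {g : k[X][X]} (hg : g.Monic) (hgD : g.natDegree ≤ D) {Δ : k[X]}
    (hΔ0 : Δ ≠ 0) (hΔ : Δ.natDegree ≤ D) :
    Nat.card {P : k × k // ev P.1 P.2 g = 0 ∧ Δ.eval P.1 = 0} ≤ D * D := by
  classical
  let S : Finset (k × k) := Δ.roots.toFinset.biUnion fun t =>
    (g.map (aeval t).toRingHom).roots.toFinset.image fun z => (t, z)
  have hS : S.card ≤ D * D := by
    refine Finset.card_biUnion_le.trans ((Finset.sum_le_card_nsmul _ _ D fun t _ => ?_).trans ?_)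
    · refine Finset.card_image_le.trans ((Multiset.toFinset_card_le _).trans ((card_roots' _).trans ?_))
      exact natDegree_map_le.trans hgD
    · rw [smul_eq_mul]
      exact Nat.mul_le_mul_right _ ((Multiset.toFinset_card_le _).trans ((card_roots' _).trans hΔ))
  refine le_trans ?_ hS
  rw [← Nat.card_eq_finsetCard]
  refine Nat.card_le_card_of_injective (fun P => ⟨P.1, ?_⟩) fun P P' h => Subtype.ext (congrArg (fun Q => Q.1) h)
  obtain ⟨⟨t, z⟩, h1, h2⟩ := P
  simp only [S, Finset.mem_biUnion, Finset.mem_image, Multiset.mem_toFinset, Prod.mk.injEq]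
  exact ⟨t, (mem_roots hΔ0).2 h2, z, (mem_roots (hg.map _).ne_zero).2 (by rw [IsRoot, ← ev_eq_eval_map]; exact h1),
    rfl, rfl⟩

/-- The constant in the two-sided count. -/
def curveConst (D : ℕ) : ℕ := 2 * (2 * D ^ 3 + 1) + 4 * D ^ 2 + D + 1

/-- **Rational zeros of an absolutely irreducible plane equation**, in terms of a genus. -/
theorem card_zeros_genus [Finite k] {D : ℕ} {g a b : k[X][X]} {Δ : k[X]} (hg : g.Monic) (hgD : DegLE D g)
    (hΔ0 : Δ ≠ 0) (hΔ : Δ.natDegree ≤ D) (hbez : a * g + b * derivative g = C Δ)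
    (hirr : Irreducible (g.map (mapRingHom (algebraMap k (AlgebraicClosure k))))) :
    ∃ G : ℕ, G ≤ 2 * D ^ 3 + 1 ∧
      ((∀ j, j ≤ g.natDegree → (g.coeff j).natDegree + j ≤ g.natDegree) →
        2 * (G : ℤ) ≤ ((g.natDegree : ℤ) - 1) * ((g.natDegree : ℤ) - 2)) ∧
      |(Nat.card {P : k × k // ev P.1 P.2 g = 0} : ℝ) - Nat.card k| ≤
        2 * (G : ℝ) * Real.sqrt (Nat.card k) + (4 * D ^ 2 + D + 1 : ℕ) := by
  classical
  obtain ⟨K, _, _, x, y, hxy, hx, hex, hfd, hconst, hfrac, huniv⟩ := exists_functionField g hg hirr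
  set F := IntermediateField.adjoin k ({x} : Set K)
  have hirr' : Irreducible g := Monic.irreducible_of_irreducible_map _ g hg hirr
  have hnat : 0 < g.natDegree := by
    refine Nat.pos_of_ne_zero fun h => hirr'.not_isUnit ?_
    rw [hg.natDegree_eq_zero.1 h]
    exact isUnit_one
  have htop : IntermediateField.adjoin F ({y} : Set K) = ⊤ := by
    refine IntermediateField.restrictScalars_injective k ?_
    rw [IntermediateField.adjoin_adjoin_left, IntermediateField.restrictScalars_top, Set.singleton_union]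
    exact hxy
  have hK : IsFunctionField k K := ⟨⟨x, hx, hfd⟩, hconst⟩
  have hF : IsFF k K := hK.1
  let σ : k[X] →+* F := (aeval (⟨x, IntermediateField.mem_adjoin_simple_self k x⟩ : F)).toRingHom
  have hroot : aeval y (g.map σ) = 0 := by
    rw [aeval_def, eval₂_map, ← hex, ev_apply]
    congr 1
    exact RingHom.ext fun c => (aeval_algHom_apply F.val _ c).symm
  have hn : Module.finrank F K ≤ D := by
    have hint : IsIntegral F y := ⟨g.map σ, hg.map σ, hroot⟩
    rw [← IntermediateField.finrank_top', ← htop, IntermediateField.adjoin.finrank hint]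
    exact (natDegree_le_of_dvd (minpoly.dvd F y hroot) (hg.map σ).ne_zero).trans (natDegree_map_le.trans hgD.1)
  -- genus
  let B : Divisor k K := bound x D g
  have hB : (0 : Divisor k K) ≤ B := bound_nonneg x D g
  have hy : ∀ Q : Place k K, Q.1 y ≤ exp (B Q) := val_root_le hF hx hgD hnat hex
  have hdx : (poles x : Divisor k K).deg = (Module.finrank F K : ℤ) := deg_poles hF hx
  have hn' : (Module.finrank F K : ℤ) ≤ D := by exact_mod_cast hn
  have hdB : B.deg ≤ 2 * (D : ℤ) * D := (deg_bound_le hF x hgD).trans (by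
    rw [hdx]; exact mul_le_mul_of_nonneg_left hn' (by positivity))
  have hgen : genus k K ≤ 2 * D ^ 3 + 1 := by
    have h : (genus k K : ℤ) ≤ 2 * (D : ℤ) ^ 3 + 1 := by
      refine (genus_le hF hK hx htop hB hy).trans ?_
      have h1 : (Module.finrank F K : ℤ) * B.deg ≤ (D : ℤ) * (2 * D * D) :=
        mul_le_mul hn' hdB (Divisor.deg_nonneg hB) (by positivity)
      linarith
    exact_mod_cast h
  -- the bad places
  let w := aeval x Δ
  have hw : w ≠ 0 := fun h => hΔ0 ((transcendental_iff.1 hx) Δ h)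
  let Sbad : Finset (Place k K) :=
    (poles x : Divisor k K).support ∪ B.support ∪ (zeros w : Divisor k K).support
  have hSbad : Sbad.card ≤ 3 * D ^ 2 + D := by
    have hcs := fun (E : Divisor k K) (hE : 0 ≤ E) => card_support_le_deg hF hE
    have h1 := hcs _ (poles_nonneg x)
    have h2 := hcs _ hB
    have h3 := hcs _ (zeros_nonneg w)
    rw [← deg_poles_eq_deg_zeros hF] at h3
    rw [hdx] at h1
    have h4 : (poles w : Divisor k K).deg ≤ (D : ℤ) * D := by
      refine (deg_poles_le_of_val_le hF (E := (D : ℤ) • poles x)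
        (zsmul_nonneg' hF (Int.natCast_nonneg D) (poles_nonneg x)) fun Q => ?_).trans ?_
      · rw [Finsupp.smul_apply, smul_eq_mul]
        exact val_aeval_le_exp hF x Q hΔ
      · rw [deg_zsmul, hdx]
        exact mul_le_mul_of_nonneg_left hn' (by positivity)
    have h5 := Finset.card_union_le ((poles x : Divisor k K).support ∪ B.support) (zeros w : Divisor k K).support
    have h6 := Finset.card_union_le (poles x : Divisor k K).support B.support
    have h7 : (Sbad.card : ℤ) ≤ 3 * (D : ℤ) ^ 2 + D := by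
      simp only [Sbad] at *
      zify at h5 h6
      nlinarith
    exact_mod_cast h7
  haveI : Finite {P : Place k K // P.deg = 1} :=
    ((finite_deg_le (k := k) hF 1).subset fun P (hP : P.deg = 1) => (hP.le : P.deg ≤ 1)).to_subtype
  set N := Nat.card {P : Place k K // P.deg = 1}
  set T := Nat.card {P : k × k // ev P.1 P.2 g = 0 ∧ Δ.eval P.1 ≠ 0}
  -- simple points
  have hsimple : ∀ t z : k, ev t z g = 0 → Δ.eval t ≠ 0 → ev (0 : k) z (derivative (shift t g)) ≠ 0 := by
    intro t z h0 h1 h2
    rw [derivative_shift, ev_shift, zero_add] at h2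
    have h3 := congrArg (ev t z) hbez
    rw [map_add, map_mul, map_mul, h0, show ev t z (derivative g) = 0 from h2, mul_zero, mul_zero, add_zero,
      ev_apply, eval₂_C] at h3
    exact h1 h3.symm
  have hshift0 : ∀ t z : k, ev t z g = 0 → ev (0 : k) z (shift t g) = 0 := fun t z h => by
    rw [ev_shift, zero_add]
    exact h
  have hC : ∀ c : k, algebraMap k (LaurentSeries k) c = ((PowerSeries.C c : PowerSeries k) : LaurentSeries k) :=
    fun c => by rw [HahnSeries.algebraMap_apply']; rfl
  let ι : PowerSeries k →ₐ[k] LaurentSeries k :=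
    { algebraMap (PowerSeries k) (LaurentSeries k) with
      commutes' := fun c => (hC c).symm }
  have hιinj : Function.Injective ι := IsFractionRing.injective (PowerSeries k) (LaurentSeries k)
  have hXtr : ∀ t : k, Transcendental k (ι PowerSeries.X + algebraMap k (LaurentSeries k) t) := by
    intro t h
    obtain ⟨c, hc⟩ := mem_range_of_isAlgebraic h
    have h1 : ι PowerSeries.X = ι (PowerSeries.C (c - t)) := by
      have h2 : ι (PowerSeries.C (c - t)) = algebraMap k (LaurentSeries k) (c - t) := ι.commutes (c - t)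
      rw [h2, map_sub, hc]
      ring
    have h3 := congrArg (PowerSeries.coeff 1) (hιinj h1)
    rw [PowerSeries.coeff_C, PowerSeries.coeff_one_X, if_neg one_ne_zero] at h3
    exact one_ne_zero h3
  have hembed : ∀ t z : k, ev t z g = 0 → Δ.eval t ≠ 0 → ∃ (φ : PowerSeries k) (τ : K →ₐ[k] LaurentSeries k),
      PowerSeries.constantCoeff φ = z ∧ ev PowerSeries.X φ (shift t g) = 0 ∧
      τ (x - algebraMap k K t) = ι PowerSeries.X ∧ τ y = ι φ := by
    intro t z h0 h1
    obtain ⟨φ, hφ0, hφ⟩ := exists_param (shift t g) z (hshift0 t z h0) (hsimple t z h0 h1)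
    obtain ⟨τ, hτx, hτy⟩ := huniv (LaurentSeries k) _ (ι φ) (hXtr t) (by
      rw [← ev_shift, ← map_ev, hφ, map_zero])
    exact ⟨φ, τ, hφ0, hφ, by rw [map_sub, hτx, AlgHom.commutes]; ring, hτy⟩
  have hlt1 : ∀ G : PowerSeries k, PowerSeries.constantCoeff G = 0 → Valued.v (ι G) < (1 : ℤᵐ⁰) := fun G hG => by
    refine lt_of_le_of_lt ((LaurentSeries.intValuation_le_iff_coeff_lt_eq_zero k (d := 1) G).2 fun n hn => ?_) ?_
    · obtain rfl : n = 0 := by omega
      rwa [PowerSeries.coeff_zero_eq_constantCoeff]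
    · rw [← exp_zero, exp_lt_exp]
      norm_num
  -- upper bound: every simple point is the centre of a place
  have hup : ∀ Q : {P : k × k // ev P.1 P.2 g = 0 ∧ Δ.eval P.1 ≠ 0}, ∃ P : Place k K, P.deg = 1 ∧
      P.1 (x - algebraMap k K Q.1.1) < 1 ∧ P.1 (y - algebraMap k K Q.1.2) < 1 := by
    rintro ⟨⟨t, z⟩, h0, h1⟩
    obtain ⟨φ, τ, hφ0, -, hτx, hτy⟩ := hembed t z h0 h1
    let v : Valuation K (WithZero (Multiplicative ℤ)) := (Valued.v (R := LaurentSeries k)).comap τ.toRingHom
    have hk : ∀ c : k, v (algebraMap k K c) ≤ 1 := fun c => by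
      show Valued.v (τ (algebraMap k K c)) ≤ (1 : ℤᵐ⁰)
      rw [AlgHom.commutes]
      exact (LaurentSeries.val_le_one_iff_eq_coe k _).2 ⟨PowerSeries.C c, (hC c).symm⟩
    have hu0 : x - algebraMap k K t ≠ 0 := fun h => hx (sub_eq_zero.1 h ▸ isAlgebraic_algebraMap _)
    have hu1 : v (x - algebraMap k K t) < 1 := by
      show Valued.v (τ (x - algebraMap k K t)) < (1 : ℤᵐ⁰)
      rw [hτx]
      exact hlt1 _ PowerSeries.constantCoeff_X
    obtain ⟨P, hP⟩ := exists_place_of_valuation hF hk ⟨_, hu0, hu1⟩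
    have hlt : ∀ c : K, P.1 c < 1 ↔ v c < 1 := fun c => by
      rcases eq_or_ne c 0 with rfl | hc
      · simp
      · have hPc : 0 < P.1 c := zero_lt_iff.2 ((Valuation.ne_zero_iff _).2 hc)
        have hvc : 0 < v c := zero_lt_iff.2 ((Valuation.ne_zero_iff _).2 hc)
        rw [← not_le, ← not_le, not_iff_not, ← inv_le_one₀ hPc, ← map_inv₀, hP, map_inv₀, inv_le_one₀ hvc]
    have hres : ∀ c : K, v c ≤ 1 → ∃ e : k, v (c - algebraMap k K e) < 1 := fun c hc => by
      obtain ⟨G, hG⟩ := (LaurentSeries.val_le_one_iff_eq_coe k (τ c)).1 hc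
      refine ⟨PowerSeries.constantCoeff G, ?_⟩
      show Valued.v (τ (c - algebraMap k K (PowerSeries.constantCoeff G))) < (1 : ℤᵐ⁰)
      rw [map_sub, AlgHom.commutes, ← hG, hC]
      rw [show ((G : LaurentSeries k) - (PowerSeries.C (PowerSeries.constantCoeff G) : PowerSeries k)) =
        ι (G - PowerSeries.C (PowerSeries.constantCoeff G)) from (map_sub ι G _).symm]
      exact hlt1 _ (by rw [map_sub, PowerSeries.constantCoeff_C, sub_self])
    refine ⟨P, ?_, (hlt _).2 hu1, (hlt _).2 ?_⟩
    · have hb : Function.Bijective (Algebra.linearMap k (IsLocalRing.ResidueField P.O)) := by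
        refine ⟨(algebraMap k (IsLocalRing.ResidueField P.O)).injective, fun r => ?_⟩
        obtain ⟨⟨c, hc⟩, rfl⟩ := IsLocalRing.residue_surjective r
        obtain ⟨e, he⟩ := hres c ((hP c).1 hc)
        refine ⟨e, ?_⟩
        have h := (FFLib.residue_eq_zero P ((⟨c, hc⟩ : P.O) - algebraMap k P.O e)).2 ((hlt _).2 he)
        rw [map_sub, sub_eq_zero] at h
        exact h.symm
      exact (LinearEquiv.ofBijective _ hb).finrank_eq.symm.trans (Module.finrank_self k)
    · show Valued.v (τ (y - algebraMap k K z)) < (1 : ℤᵐ⁰)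
      rw [map_sub, AlgHom.commutes, hτy, hC,
        show (ι φ - ((PowerSeries.C z : PowerSeries k) : LaurentSeries k)) = ι (φ - PowerSeries.C z) from
          (map_sub ι φ _).symm]
      exact hlt1 _ (by rw [map_sub, PowerSeries.constantCoeff_C, hφ0, sub_self])
  choose place hdeg hpx hpy using hup
  have hconst_eq : ∀ (P : Place k K) (u : K) (c c' : k), P.1 (u - algebraMap k K c) < 1 →
      P.1 (u - algebraMap k K c') < 1 → c = c' := fun P u c c' h h' => by
    by_contra hne
    have h1 : P.1 (algebraMap k K (c' - c)) < 1 := by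
      rw [map_sub, show algebraMap k K c' - algebraMap k K c =
        (u - algebraMap k K c) - (u - algebraMap k K c') by ring]
      exact (P.1.map_sub _ _).trans_lt (max_lt h h')
    exact h1.ne (val_algebraMap P (sub_ne_zero.2 (Ne.symm hne)))
  have hTN : T ≤ N := by
    refine Nat.card_le_card_of_injective (fun Q => (⟨place Q, hdeg Q⟩ : {P : Place k K // P.deg = 1}))
      fun Q Q' h => ?_
    have h' : place Q = place Q' := congrArg Subtype.val h
    exact Subtype.ext (Prod.ext (hconst_eq (place Q) x _ _ (hpx Q) (h' ▸ hpx Q'))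
      (hconst_eq (place Q) y _ _ (hpy Q) (h' ▸ hpy Q')))
  -- lower bound: a good place is determined by its centre
  haveI := Fintype.ofFinite {P : Place k K // P.deg = 1}
  let Good : Finset {P : Place k K // P.deg = 1} := Finset.univ.filter fun P => P.1 ∉ Sbad
  have hcount : N ≤ Good.card + Sbad.card := by
    have h1 : Finset.univ.card = Good.card +
        (Finset.univ.filter fun P : {P : Place k K // P.deg = 1} => ¬ P.1 ∉ Sbad).card :=
      (Finset.card_filter_add_card_filter_not _).symm
    have h2 : (Finset.univ.filter fun P : {P : Place k K // P.deg = 1} => ¬ P.1 ∉ Sbad).card ≤ Sbad.card :=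
      Finset.card_le_card_of_injOn (fun P => P.1) (fun P hP => by simpa using hP)
        (fun P _ P' _ h => Subtype.ext h)
    rw [Finset.card_univ, ← Nat.card_eq_fintype_card] at h1
    simp only [N]
    omega
  have hcentre : ∀ P : {P : {P : Place k K // P.deg = 1} // P ∈ Good},
      ∃ Q : {P : k × k // ev P.1 P.2 g = 0 ∧ Δ.eval P.1 ≠ 0},
        P.1.1.1 (x - algebraMap k K Q.1.1) < 1 ∧ P.1.1.1 (y - algebraMap k K Q.1.2) < 1 := by
    rintro ⟨⟨P, hP1⟩, hPG⟩
    have hP := (Finset.mem_filter.1 hPG).2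
    simp only [Sbad, Finset.mem_union, Finsupp.mem_support_iff, not_or, not_not] at hP
    obtain ⟨⟨h1, h2⟩, h3⟩ := hP
    rw [poles, Finsupp.mapRange_apply, div_apply hF] at h1
    rw [zeros, Finsupp.mapRange_apply, div_apply hF] at h3
    have hx1 : P.1 x ≤ 1 := by
      rw [val_eq_exp P fun h => hx (by rw [h]; exact isAlgebraic_zero), ← exp_zero, exp_le_exp]
      omega
    have hy1 : P.1 y ≤ 1 := by
      have := hy P
      rwa [h2, exp_zero] at this
    have hw1 : P.1 w = 1 := by
      refine le_antisymm ?_ ?_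
      · show P.1 (aeval x Δ) ≤ 1
        exact FFLib.val_aeval_le_one P.2.1 hx1 Δ
      · rw [val_eq_exp P hw, ← exp_zero, exp_le_exp]
        omega
    obtain ⟨t, z, ht, hv⟩ := exists_values hP1 hx1 hy1
    have hz : P.1 (y - algebraMap k K z) < 1 := by
      obtain ⟨c, hc⟩ := exists_value_of_deg_one hP1 (⟨y, hy1⟩ : P.O)
      have hyc : P.1 (y - algebraMap k K c) < 1 :=
        (FFLib.residue_eq_zero P ((⟨y, hy1⟩ : P.O) - algebraMap k P.O c)).1 (by
          rw [map_sub, hc, sub_eq_zero]; rfl)
      refine lt_of_le_of_ne ((P.1.map_sub _ _).trans (max_le hy1 (P.2.1 _))) fun h => ?_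
      by_cases hzc : z = c
      · exact hyc.ne (hzc ▸ h)
      · have h1 := (hv ((X : k[X][X]) - C (C z))).2 (by
          rw [map_sub, ev_apply, eval₂_X, ev_apply, eval₂_C]
          simpa using h)
        exact h1 (by rw [map_sub, ev_apply, eval₂_X, ev_apply, eval₂_C]; simp)
    have hΔt : Δ.eval t ≠ 0 := by
      have h := (hv (C Δ)).2 (by rw [ev_apply, eval₂_C]; exact hw1)
      rwa [ev_apply, eval₂_C] at h
    exact ⟨⟨(t, z), (hv g).1 hex, hΔt⟩, ht, hz⟩
  choose centre hcx hcy using hcentre
  have hGT : Good.card ≤ T := by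
    rw [← Nat.card_eq_finsetCard]
    refine Nat.card_le_card_of_injective centre fun P P' hPP => ?_
    obtain ⟨⟨⟨t, z⟩, h0, h1⟩, hQ⟩ : ∃ Q, centre P = Q := ⟨_, rfl⟩
    have hxP := hcx P; have hyP := hcy P; have hxP' := hcx P'; have hyP' := hcy P'
    rw [← hPP] at hxP' hyP'
    rw [hQ] at hxP hyP hxP' hyP'
    obtain ⟨φ, τ, hφ0, hφ, hτx, hτy⟩ := hembed t z h0 h1
    set x' := x - algebraMap k K t
    have hevx : ∀ f : k[X][X], ev x' y (shift t f) = ev x y f := fun f => by
      rw [ev_shift]; simp [x']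
    have hshift : Function.Surjective (shift t : k[X][X] → k[X][X]) := fun f => ⟨shift (-t) f, by
      rw [shift, shift, coe_mapRingHom, coe_mapRingHom, Polynomial.map_map]
      convert Polynomial.map_id (p := f) using 2
      refine RingHom.ext fun c => ?_
      show aeval (X + C t : k[X]) (aeval (X + C (-t) : k[X]) c) = c
      rw [← aeval_algHom_apply]
      simp⟩
    have hgood : ∀ f : k[X][X], ev x' y f ≠ 0 → ∃ m : ℕ, ∀ R : Place k K, R.1 x' < 1 →
        R.1 (y - algebraMap k K z) < 1 → R.1 (ev x' y f) = R.1 x' ^ m := by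
      intro f hf
      have hne : ∃ i, PowerSeries.coeff i (ev PowerSeries.X φ f) ≠ 0 := by
        by_contra hall
        push Not at hall
        refine hf (τ.toRingHom.injective ?_)
        show τ (ev x' y f) = τ 0
        rw [map_ev, hτx, hτy, ← map_ev, show ev PowerSeries.X φ f = 0 from PowerSeries.ext fun i => by simp [hall i],
          map_zero, map_zero]
      refine ⟨Nat.find hne, fun R hRx hRy => ?_⟩
      exact val_eq_pow_order hφ (by rw [hφ0]; exact hsimple t z h0 h1) ((hevx g).trans hex) R hRx (by rwa [hφ0]) f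
        (fun i hi => not_not.1 (Nat.find_min hne hi)) (Nat.find_spec hne)
    refine Subtype.ext (Subtype.ext (place_eq_of_iff fun c => ?_))
    obtain ⟨f, h, hh, hc⟩ := hfrac c
    rcases eq_or_ne c 0 with rfl | hc0
    · simp
    have hf : ev x y f ≠ 0 := hc ▸ mul_ne_zero hc0 hh
    obtain ⟨m, hm⟩ := hgood _ ((hevx f).symm ▸ hf)
    obtain ⟨n, hn2⟩ := hgood _ ((hevx h).symm ▸ hh)
    have hx'0 : x' ≠ 0 := fun h' => hx (sub_eq_zero.1 h' ▸ isAlgebraic_algebraMap _)
    have key : ∀ R : Place k K, R.1 x' < 1 → R.1 (y - algebraMap k K z) < 1 → (R.1 c ≤ 1 ↔ n ≤ m) := by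
      intro R hRx hRy
      have h1' := congrArg R.1 hc
      rw [map_mul, ← hevx f, ← hevx h, hm R hRx hRy, hn2 R hRx hRy] at h1'
      have hpos : 0 < R.1 x' := zero_lt_iff.2 ((Valuation.ne_zero_iff _).2 hx'0)
      rw [← (pow_right_strictAnti₀ hpos hRx).le_iff_ge, ← h1']
      exact (mul_le_iff_le_one_left (pow_pos hpos n)).symm
    exact (key _ hxP hyP).trans (key _ hxP' hyP').symm
  -- conclusion
  have hW := S11042.result k K hK
  rw [show Nat.card {P : Place k K // P.deg = 1} = N from rfl] at hW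
  set q := Nat.card k
  set Z := Nat.card {P : k × k // ev P.1 P.2 g = 0}
  have hTZ : T ≤ Z := Nat.card_le_card_of_injective (fun P => ⟨P.1, P.2.1⟩) fun P P' h =>
    Subtype.ext (congrArg (fun Q => Q.1) h)
  have hZT : Z ≤ T + D * D := by
    refine le_trans ?_ (Nat.add_le_add_left (card_rootSet_fibre hg hgD.1 hΔ0 hΔ) T)
    rw [← Nat.card_sum]
    refine Nat.card_le_card_of_injective (fun P => if h : Δ.eval P.1.1 = 0 then Sum.inr ⟨P.1, P.2, h⟩
      else Sum.inl ⟨P.1, P.2, h⟩) fun P P' hPP => ?_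
    refine Subtype.ext ?_
    simp only at hPP
    split_ifs at hPP <;> simpa using hPP
  have hW1 := abs_le.1 hW
  have hlow : (N : ℝ) ≤ Z + (3 * D ^ 2 + D : ℕ) := by exact_mod_cast (by omega : N ≤ Z + (3 * D ^ 2 + D))
  have hhigh : (Z : ℝ) ≤ N + (D * D : ℕ) := by exact_mod_cast (by omega : Z ≤ N + D * D)
  refine ⟨genus k K, hgen, fun htot => Sharp.genus_le_of_totalDegree hK hx htop hg htot hex, ?_⟩
  rw [abs_le]
  push_cast at hlow hhigh ⊢
  constructor <;> nlinarith [sq_nonneg (D : ℝ), Nat.cast_nonneg (α := ℝ) D]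

/-- **Rational zeros of an absolutely irreducible plane equation.** -/
theorem card_zeros_sub_le [Finite k] {D : ℕ} {g a b : k[X][X]} {Δ : k[X]} (hg : g.Monic) (hgD : DegLE D g)
    (hΔ0 : Δ ≠ 0) (hΔ : Δ.natDegree ≤ D) (hbez : a * g + b * derivative g = C Δ)
    (hirr : Irreducible (g.map (mapRingHom (algebraMap k (AlgebraicClosure k))))) :
    |(Nat.card {P : k × k // ev P.1 P.2 g = 0} : ℝ) - Nat.card k| ≤
      curveConst D * Real.sqrt (Nat.card k) := by
  obtain ⟨G, hG, -, hcount⟩ := card_zeros_genus hg hgD hΔ0 hΔ hbez hirr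
  refine hcount.trans ?_
  have hq1 : (1 : ℝ) ≤ Real.sqrt (Nat.card k) :=
    Real.one_le_sqrt.2 (by exact_mod_cast Nat.card_pos (α := k))
  have hG' : (G : ℝ) ≤ ((2 * D ^ 3 + 1 : ℕ) : ℝ) := by exact_mod_cast hG
  simp only [curveConst]
  push_cast at hG' ⊢
  nlinarith [mul_le_mul_of_nonneg_left hq1 (by positivity : (0 : ℝ) ≤ 4 * (D : ℝ) ^ 2 + D + 1)]

end Groth.Agent.LangWeil75
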