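import Groth.Agent.AbscissaLB75.Plane.Count
import Mathlib.FieldTheory.RatFunc.Basic
import Mathlib.RingTheory.Polynomial.GaussLemma
import Mathlib.Algebra.Polynomial.Eval.Irreducible
import Mathlib.FieldTheory.IsAlgClosed.AlgebraicClosure

/-!
The function field of an absolutely irreducible plane curve given by a monic equation, and the
places at a simple rational point.
-/

noncomputable section

universe u v

namespace Groth.Agent.LangWeil75

open Polynomial FunFld Groth.Agent.FFLib Groth.Agent.AbscissaLB75

/-- An absolutely irreducible monic equation has a function field whose field of constants is the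
base field. -/
theorem exists_functionField {k : Type u} [Field k] (g : k[X][X]) (hg : g.Monic)
    (hirr : Irreducible (g.map (mapRingHom (algebraMap k (AlgebraicClosure k))))) :
    ∃ (K : Type u) (_ : Field K) (_ : Algebra k K) (x y : K),
      IntermediateField.adjoin k ({x, y} : Set K) = ⊤ ∧ Transcendental k x ∧ ev x y g = 0 ∧
      FiniteDimensional (IntermediateField.adjoin k ({x} : Set K)) K ∧
      (∀ z : K, IsAlgebraic k z → z ∈ Set.range (algebraMap k K)) ∧
      (∀ z : K, ∃ f h : k[X][X], ev x y h ≠ 0 ∧ z * ev x y h = ev x y f) ∧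
      ∀ (L : Type u) [Field L] [Algebra k L] (x' y' : L), Transcendental k x' → ev x' y' g = 0 →
        ∃ τ : K →ₐ[k] L, τ x = x' ∧ τ y = y' := by
  classical
  let ψ := mapRingHom (algebraMap k (AlgebraicClosure k))
  have hψ : Function.Injective ψ := map_injective _ (algebraMap k (AlgebraicClosure k)).injective
  have hirr' : Irreducible g := Monic.irreducible_of_irreducible_map ψ g hg hirr
  let G : (RatFunc k)[X] := g.map (algebraMap k[X] (RatFunc k))
  let Gb : (RatFunc (AlgebraicClosure k))[X] :=
    (g.map ψ).map (algebraMap (AlgebraicClosure k)[X] (RatFunc (AlgebraicClosure k)))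
  haveI : Fact (Irreducible G) :=
    ⟨(Monic.irreducible_iff_irreducible_map_fraction_map hg).1 hirr'⟩
  haveI : Fact (Irreducible Gb) :=
    ⟨(Monic.irreducible_iff_irreducible_map_fraction_map (hg.map ψ)).1 hirr⟩
  have hGm : G.Monic := hg.map _
  have hGbm : Gb.Monic := (hg.map ψ).map _
  let K := AdjoinRoot G
  let Kb := AdjoinRoot Gb
  let x : K := algebraMap (RatFunc k) K RatFunc.X
  let y : K := AdjoinRoot.root G
  -- base change
  let jR : RatFunc k →+* RatFunc (AlgebraicClosure k) :=
    IsFractionRing.map (A := k[X]) (K := RatFunc k) (B := (AlgebraicClosure k)[X])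
      (L := RatFunc (AlgebraicClosure k)) hψ
  have hjR : ∀ p : k[X], jR (algebraMap _ _ p) = algebraMap _ _ (ψ p) := fun p =>
    IsLocalization.map_eq _ p
  have hGb : G.map jR = Gb := by
    simp only [G, Gb, Polynomial.map_map]
    exact congrArg (fun f => g.map f) (RingHom.ext hjR)
  let jK : K →+* Kb := AdjoinRoot.lift ((algebraMap _ Kb).comp jR) (AdjoinRoot.root Gb) (by
    rw [← eval₂_map, hGb]
    exact AdjoinRoot.eval₂_root Gb)
  have hjKmk : ∀ p, jK (AdjoinRoot.mk G p) = AdjoinRoot.mk Gb (p.map jR) := fun p => by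
    rw [show jK = _ from rfl, AdjoinRoot.lift_mk, ← eval₂_map, ← AdjoinRoot.aeval_eq, aeval_def]
  -- transcendence
  have hx : Transcendental k x := by
    rw [transcendental_iff]
    intro p hp
    rw [show x = algebraMap (RatFunc k) K RatFunc.X from rfl, aeval_algebraMap_apply,
      ← RatFunc.algebraMap_X, aeval_algebraMap_apply, aeval_X_left_apply] at hp
    exact (map_eq_zero_iff _ (RatFunc.algebraMap_injective k)).1
      ((map_eq_zero_iff _ (algebraMap (RatFunc k) K).injective).1 hp)
  have hevx : ∀ p : k[X], aeval x p = algebraMap (RatFunc k) K (algebraMap k[X] (RatFunc k) p) := fun p => by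
    rw [show x = algebraMap (RatFunc k) K RatFunc.X from rfl, aeval_algebraMap_apply,
      ← RatFunc.algebraMap_X, aeval_algebraMap_apply, aeval_X_left_apply]
  have hev : ev x y g = 0 := by
    have h0 : G.eval₂ (algebraMap (RatFunc k) K) y = 0 := AdjoinRoot.eval₂_root G
    rw [eval₂_map] at h0
    rw [ev_apply, show (aeval x).toRingHom = (algebraMap (RatFunc k) K).comp (algebraMap k[X] (RatFunc k))
      from RingHom.ext hevx]
    exact h0
  -- generation
  set F := IntermediateField.adjoin k ({x} : Set K)
  have hRF : ∀ r : RatFunc k, algebraMap (RatFunc k) K r ∈ F := fun r => by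
    obtain ⟨a, b, -, rfl⟩ := IsFractionRing.div_surjective (A := k[X]) r
    rw [map_div₀, ← hevx, ← hevx]
    exact div_mem (IntermediateField.algebra_adjoin_le_adjoin _ _ (aeval_mem_adjoin_singleton _ _))
      (IntermediateField.algebra_adjoin_le_adjoin _ _ (aeval_mem_adjoin_singleton _ _))
  have hgen : ∀ z : K, z ∈ Algebra.adjoin F ({y} : Set K) := fun z => by
    obtain ⟨p, rfl⟩ := AdjoinRoot.mk_surjective z
    rw [← AdjoinRoot.aeval_eq, aeval_eq_sum_range]
    refine Subalgebra.sum_mem _ fun i _ => ?_
    rw [Algebra.smul_def]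
    exact Subalgebra.mul_mem _ (Subalgebra.algebraMap_mem _ (⟨_, hRF _⟩ : F))
      (Subalgebra.pow_mem _ (Algebra.self_mem_adjoin_singleton _ _) _)
  refine ⟨K, inferInstance, inferInstance, x, y, ?_, hx, hev, ?_, fun z hz => ?_, fun z => ?_,
    fun L _ _ x' y' hx' hy' => ?_⟩
  · refine eq_top_iff.2 fun z _ => ?_
    have hz := IntermediateField.algebra_adjoin_le_adjoin F ({y} : Set K) (hgen z)
    have h2 : z ∈ (IntermediateField.adjoin F ({y} : Set K)).restrictScalars k := hz
    rw [IntermediateField.adjoin_adjoin_left, Set.singleton_union] at h2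
    exact h2
  · have hint : IsIntegral F y := by
      let σ : k[X] →+* F := (aeval (⟨x, IntermediateField.mem_adjoin_simple_self k x⟩ : F)).toRingHom
      refine ⟨g.map σ, hg.map σ, ?_⟩
      rw [eval₂_map, ← hev, ev_apply]
      congr 1
      exact RingHom.ext fun a => (aeval_algHom_apply F.val _ a).symm
    have hfin : Module.Finite F (Algebra.adjoin F ({y} : Set K)) :=
      Module.Finite.iff_fg.2 hint.fg_adjoin_singleton
    exact Module.Finite.of_surjective (Algebra.adjoin F ({y} : Set K)).val.toLinearMap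
      fun z => ⟨⟨z, hgen z⟩, rfl⟩
  · -- constants
    obtain ⟨p₀, rfl⟩ := AdjoinRoot.mk_surjective z
    set p := p₀ %ₘ G with hp
    have hpz : AdjoinRoot.mk G p₀ = AdjoinRoot.mk G p := by
      rw [AdjoinRoot.mk_eq_mk, hp]
      exact ⟨p₀ /ₘ G, sub_eq_of_eq_add (by rw [add_comm]; exact (modByMonic_add_div p₀ G).symm)⟩
    rw [hpz] at hz ⊢
    let ι : AlgebraicClosure k →+* Kb := (algebraMap (RatFunc (AlgebraicClosure k)) Kb).comp
      (algebraMap (AlgebraicClosure k) (RatFunc (AlgebraicClosure k)))
    letI : Algebra (AlgebraicClosure k) Kb := ι.toAlgebra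
    obtain ⟨q, hq0, hq⟩ := hz
    have hcompat : jK.comp (algebraMap k K) = ι.comp (algebraMap k (AlgebraicClosure k)) := by
      refine RingHom.ext fun c => ?_
      simp only [RingHom.comp_apply, ι]
      rw [IsScalarTower.algebraMap_apply k (RatFunc k) K,
        show jK (algebraMap (RatFunc k) K (algebraMap k (RatFunc k) c)) =
          algebraMap _ Kb (jR (algebraMap k (RatFunc k) c)) from AdjoinRoot.lift_of _ ,
        IsScalarTower.algebraMap_apply k k[X] (RatFunc k), hjR,
        show ψ (algebraMap k k[X] c) = C (algebraMap k (AlgebraicClosure k) c) from Polynomial.map_C _,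
        IsScalarTower.algebraMap_apply (AlgebraicClosure k) (AlgebraicClosure k)[X] (RatFunc (AlgebraicClosure k))]
      rfl
    have hint : IsIntegral (AlgebraicClosure k) (jK (AdjoinRoot.mk G p)) := by
      refine (show IsAlgebraic (AlgebraicClosure k) (jK (AdjoinRoot.mk G p)) from
        ⟨q.map (algebraMap k (AlgebraicClosure k)),
          (Polynomial.map_ne_zero_iff (algebraMap k (AlgebraicClosure k)).injective).2 hq0, ?_⟩).isIntegral
      rw [aeval_def, eval₂_map, show algebraMap (AlgebraicClosure k) Kb = ι from rfl, ← hcompat, ← hom_eval₂,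
        ← aeval_def, hq, map_zero]
    obtain ⟨c, hc⟩ : ∃ c, algebraMap (AlgebraicClosure k) Kb c = jK (AdjoinRoot.mk G p) := by
      have h1 := minpoly.irreducible hint
      have h2 := IsAlgClosed.degree_eq_one_of_irreducible (AlgebraicClosure k) h1
      exact minpoly.mem_range_of_degree_eq_one _ _ h2
    rw [hjKmk] at hc
    have hpc : p.map jR = C (algebraMap (AlgebraicClosure k) (RatFunc (AlgebraicClosure k)) c) := by
      have h0 : Gb ∣ p.map jR - C (algebraMap (AlgebraicClosure k) (RatFunc (AlgebraicClosure k)) c) := by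
        rw [← AdjoinRoot.mk_eq_zero, map_sub, sub_eq_zero, AdjoinRoot.mk_C, ← hc]
        rfl
      refine sub_eq_zero.1 (eq_zero_of_dvd_of_degree_lt h0 ?_)
      refine (degree_sub_le _ _).trans_lt (max_lt ?_ ?_)
      · rw [degree_map, ← hGb, degree_map, hp]
        exact degree_modByMonic_lt _ hGm
      · refine degree_C_le.trans_lt ?_
        rw [← natDegree_pos_iff_degree_pos]
        exact Irreducible.natDegree_pos Fact.out
    have hp0 : p = C (p.coeff 0) := by
      refine eq_C_of_degree_le_zero ?_
      rw [← degree_map p jR, hpc]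
      exact degree_C_le
    have hc0 : jR (p.coeff 0) =
        algebraMap (AlgebraicClosure k)[X] (RatFunc (AlgebraicClosure k)) (C c) := by
      have h1 := congrArg (fun f => f.coeff 0) hpc
      rw [coeff_map, coeff_C_zero, IsScalarTower.algebraMap_apply (AlgebraicClosure k)
        (AlgebraicClosure k)[X] (RatFunc (AlgebraicClosure k))] at h1
      exact h1
    obtain ⟨a, b, hb, hab⟩ := IsFractionRing.div_surjective (A := k[X]) (p.coeff 0)
    have hb0 : b ≠ 0 := nonZeroDivisors.ne_zero hb
    rw [← hab, map_div₀, hjR, hjR,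
      div_eq_iff (by rwa [Ne, map_eq_zero_iff _ (RatFunc.algebraMap_injective _), map_eq_zero_iff ψ hψ]),
      ← map_mul] at hc0
    have h2 := congrArg (fun f => f.coeff b.natDegree) (RatFunc.algebraMap_injective _ hc0)
    simp only [ψ, coe_mapRingHom, coeff_map, coeff_C_mul] at h2
    have hl : b.coeff b.natDegree ≠ 0 := leadingCoeff_ne_zero.2 hb0
    have hcc : algebraMap k (AlgebraicClosure k) (a.coeff b.natDegree / b.coeff b.natDegree) = c := by
      rw [map_div₀, h2, mul_div_cancel_right₀]
      rwa [Ne, map_eq_zero]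
    have hp1 : p.coeff 0 = algebraMap k[X] (RatFunc k) (C (a.coeff b.natDegree / b.coeff b.natDegree)) := by
      refine jR.injective ?_
      rw [hjR, show ψ (C (a.coeff b.natDegree / b.coeff b.natDegree)) = C c from
        (Polynomial.map_C _).trans (by rw [hcc]), ← hab, map_div₀, hjR, hjR,
        div_eq_iff (by rwa [Ne, map_eq_zero_iff _ (RatFunc.algebraMap_injective _), map_eq_zero_iff ψ hψ]),
        ← map_mul]
      exact hc0
    refine ⟨a.coeff b.natDegree / b.coeff b.natDegree, ?_⟩
    rw [hp0, hp1, AdjoinRoot.mk_C, IsScalarTower.algebraMap_apply k (RatFunc k) K,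
      IsScalarTower.algebraMap_apply k k[X] (RatFunc k)]
    rfl
  · -- fractions
    obtain ⟨p, rfl⟩ := AdjoinRoot.mk_surjective z
    obtain ⟨b, hb, hmap⟩ := IsLocalization.integerNormalization_spec (nonZeroDivisors k[X]) p
    have hkey : ∀ q : k[X][X], ev x y q = AdjoinRoot.mk G (q.map (algebraMap k[X] (RatFunc k))) := fun q => by
      rw [← AdjoinRoot.aeval_eq, aeval_def, eval₂_map, ev_apply]
      congr 1
      exact RingHom.ext hevx
    have hb0 : algebraMap k[X] (RatFunc k) b ≠ 0 :=
      (map_ne_zero_iff _ (RatFunc.algebraMap_injective k)).2 (nonZeroDivisors.ne_zero hb)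
    refine ⟨IsLocalization.integerNormalization (nonZeroDivisors k[X]) p, C b, ?_, ?_⟩
    · rw [hkey, Polynomial.map_C, AdjoinRoot.mk_C]
      exact (map_ne_zero_iff _ (AdjoinRoot.of G).injective).2 hb0
    · rw [hkey, hkey, ← map_mul, Polynomial.map_C,
        show (IsLocalization.integerNormalization (nonZeroDivisors k[X]) p).map
          (algebraMap k[X] (RatFunc k)) = p * C (algebraMap k[X] (RatFunc k) b) from
          Polynomial.ext fun i => by
            rw [hmap, coeff_smul, coeff_mul_C, mul_comm, Algebra.smul_def]]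
  · -- universal property
    have hinj : Function.Injective (aeval x').toRingHom := transcendental_iff_injective.1 hx'
    let r : RatFunc k →+* L := IsFractionRing.lift hinj
    have hr : ∀ q : k[X], r (algebraMap k[X] (RatFunc k) q) = aeval x' q := fun q =>
      IsFractionRing.lift_algebraMap hinj q
    have hroot : G.eval₂ r y' = 0 := by
      rw [show G = g.map (algebraMap k[X] (RatFunc k)) from rfl, eval₂_map, ← hy', ev_apply]
      congr 1
      exact RingHom.ext hr
    let τ : K →+* L := AdjoinRoot.lift r y' hroot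
    refine ⟨{ τ with commutes' := fun c => ?_ }, ?_, AdjoinRoot.lift_root hroot⟩
    · show τ (algebraMap k K c) = _
      rw [IsScalarTower.algebraMap_apply k (RatFunc k) K]
      refine (AdjoinRoot.lift_of _).trans ?_
      rw [IsScalarTower.algebraMap_apply k k[X] (RatFunc k), hr, AlgHom.commutes]
    · show τ x = x'
      refine (AdjoinRoot.lift_of _).trans ?_
      rw [← RatFunc.algebraMap_X, hr, aeval_X]

variable {k : Type u} {K : Type v} [Field k] [Field K] [Algebra k K]

/-- The value of a polynomial at a place centred at a simple point is that of its expansion. -/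
theorem val_eq_pow_order {g : k[X][X]} {φ : PowerSeries k} (hφ : ev PowerSeries.X φ g = 0)
    (h1 : ev (0 : k) (PowerSeries.constantCoeff φ) (derivative g) ≠ 0) {x y : K} (hg : ev x y g = 0)
    (P : Place k K) (hx : P.1 x < 1) (hy : P.1 (y - algebraMap k K (PowerSeries.constantCoeff φ)) < 1)
    (p : k[X][X]) {m : ℕ} (hm : ∀ i < m, PowerSeries.coeff i (ev PowerSeries.X φ p) = 0)
    (hm' : PowerSeries.coeff m (ev PowerSeries.X φ p) ≠ 0) :
    P.1 (ev x y p) = P.1 x ^ m := by
  classical
  set z₀ := PowerSeries.constantCoeff φ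
  set φm : k[X] := PowerSeries.trunc (m + 1) φ with hφm
  let xO : P.O := ⟨x, hx.le⟩
  have hyle : P.1 y ≤ 1 := by
    rw [show y = (y - algebraMap k K z₀) + algebraMap k K z₀ by ring]
    exact (P.1.map_add _ _).trans (max_le hy.le (P.2.1 _))
  let yO : P.O := ⟨y, hyle⟩
  -- Taylor expansion
  have hdvd : ∀ f : k[X][X], ∃ w : k[X][X], f = C (f.eval φm) + (X - C φm) * w := fun f => by
    obtain ⟨w, hw⟩ := X_sub_C_dvd_sub_C_eval (p := f) (a := φm)
    exact ⟨w, by rw [← hw]; ring⟩
  have hres : ∀ f : k[X][X], P.1 (ev x y f) ≤ 1 ∧ (P.1 (ev x y f) < 1 ↔ ev (0 : k) z₀ f = 0) := fun f => by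
    have hf : (ev xO yO f : K) = ev x y f := map_ev (inclAlg P) xO yO f
    refine ⟨hf ▸ (ev xO yO f).2, ?_⟩
    have hx0 : resAlg P xO = algebraMap k _ 0 := by
      rw [map_zero]
      exact (FFLib.residue_eq_zero P xO).2 hx
    have hy0 : resAlg P yO = algebraMap k _ z₀ := by
      have h := (FFLib.residue_eq_zero P (yO - algebraMap k P.O z₀)).2 hy
      rw [map_sub, sub_eq_zero] at h
      exact h
    have hr : resAlg P (ev xO yO f) = algebraMap k _ (ev (0 : k) z₀ f) := by
      rw [map_ev, hx0, hy0]
      exact (map_ev (Algebra.ofId k (IsLocalRing.ResidueField P.O)) 0 z₀ f).symm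
    rw [← hf, ← FFLib.residue_eq_zero P (ev xO yO f),
      show IsLocalRing.residue P.O (ev xO yO f) = resAlg P (ev xO yO f) from rfl, hr,
      map_eq_zero_iff _ (algebraMap k (IsLocalRing.ResidueField P.O)).injective]
  -- the truncation
  have hdiff : ∀ i ≤ m, PowerSeries.coeff i ((φm : PowerSeries k) - φ) = 0 := fun i hi => by
    rw [map_sub, Polynomial.coeff_coe, hφm, PowerSeries.coeff_trunc, if_pos (by omega), sub_self]
  have hcoe : ∀ c : k[X], ev PowerSeries.X φ (C c) = (c : PowerSeries k) := fun c => by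
    rw [ev_apply, eval₂_C]
    show aeval PowerSeries.X c = _
    induction c using Polynomial.induction_on' with
    | add a b ha hb => simp [ha, hb]
    | monomial n a =>
        rw [aeval_monomial, Polynomial.coe_monomial, PowerSeries.algebraMap_apply,
          PowerSeries.monomial_eq_C_mul_X_pow]
        simp
  have hX : PowerSeries.X ^ (m + 1) ∣ φ - (φm : PowerSeries k) := by
    rw [PowerSeries.X_pow_dvd_iff]
    intro i hi
    rw [← neg_sub, map_neg, hdiff i (by omega), neg_zero]
  have hkey : ∀ f : k[X][X], PowerSeries.X ^ (m + 1) ∣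
      ((f.eval φm : k[X]) : PowerSeries k) - ev PowerSeries.X φ f := fun f => by
    obtain ⟨w, hw⟩ := hdvd f
    conv => arg 2; arg 2; rw [hw]
    rw [map_add, map_mul, map_sub, hcoe, hcoe, sub_add_cancel_left, dvd_neg,
      show ev PowerSeries.X φ (X : k[X][X]) = φ by rw [ev_apply, eval₂_X]]
    exact hX.mul_right _
  have hpow : ∀ (c : k[X]) (n : ℕ), PowerSeries.X ^ n ∣ (c : PowerSeries k) →
      P.1 (aeval x c) ≤ P.1 x ^ n := fun c n h => by
    have h' : (X : k[X]) ^ n ∣ c := by
      rw [X_pow_dvd_iff]
      intro d hd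
      rw [← Polynomial.coeff_coe]
      exact PowerSeries.X_pow_dvd_iff.1 h d hd
    obtain ⟨c', rfl⟩ := h'
    rw [map_mul, map_pow, aeval_X, map_mul, map_pow]
    have h1 := (hres (C c')).1
    rw [ev_apply, eval₂_C] at h1
    exact mul_le_of_le_one_right' h1
  -- distance of `y` to the truncation
  obtain ⟨w, hw⟩ := hdvd g
  have hw0 : P.1 (ev x y w) = 1 := by
    refine (hres w).1.eq_of_not_lt fun h => h1 ?_
    have h0 := (hres w).2.1 h
    have hd : derivative g = w + (X - C φm) * derivative w := by
      conv_lhs => rw [hw]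
      simp
    rw [hd, map_add, map_mul, map_sub, h0, zero_add,
      show ev (0 : k) z₀ (X : k[X][X]) = z₀ by rw [ev_apply, eval₂_X],
      show ev (0 : k) z₀ (C φm) = z₀ by
        rw [ev_apply, eval₂_C]
        show aeval (0 : k) φm = z₀
        rw [show aeval (0 : k) φm = φm.eval 0 from rfl, ← coeff_zero_eq_eval_zero, hφm,
          PowerSeries.coeff_trunc, if_pos (by omega), PowerSeries.coeff_zero_eq_constantCoeff],
      sub_self, zero_mul]
  have hyφ : P.1 (y - aeval x φm) ≤ P.1 x ^ (m + 1) := by
    have h0 : aeval x (g.eval φm) + (y - aeval x φm) * ev x y w = 0 := by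
      have hh := congrArg (ev x y) hw
      rw [hg, map_add, map_mul, map_sub, show ev x y (X : k[X][X]) = y by rw [ev_apply, eval₂_X],
        show ev x y (C φm) = aeval x φm by rw [ev_apply, eval₂_C]; rfl,
        show ev x y (C (g.eval φm)) = aeval x (g.eval φm) by rw [ev_apply, eval₂_C]; rfl] at hh
      exact hh.symm
    have h2 : P.1 ((y - aeval x φm) * ev x y w) ≤ P.1 x ^ (m + 1) := by
      rw [eq_neg_of_add_eq_zero_right h0, Valuation.map_neg]
      refine hpow _ _ ?_
      have h3 := hkey g
      rwa [hφ, sub_zero] at h3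
    rwa [map_mul, hw0, mul_one] at h2
  -- conclusion
  obtain ⟨w', hw'⟩ := hdvd p
  set a := p.eval φm
  have ha : ∀ i < m, a.coeff i = 0 := fun i hi => by
    have := PowerSeries.X_pow_dvd_iff.1 (hkey p) i (by omega)
    rwa [map_sub, hm i hi, sub_zero, Polynomial.coeff_coe] at this
  have ham : a.coeff m ≠ 0 := fun h => hm' (by
    have := PowerSeries.X_pow_dvd_iff.1 (hkey p) m (by omega)
    rwa [map_sub, Polynomial.coeff_coe, h, zero_sub, neg_eq_zero] at this)
  have hX0 : x ≠ 0 → P.1 x ≠ 0 := fun h => (Valuation.ne_zero_iff _).2 h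
  obtain ⟨b, hb⟩ : (X : k[X]) ^ m ∣ a := X_pow_dvd_iff.2 fun d hd => ha d hd
  have hb0 : b.eval 0 ≠ 0 := by
    rw [← coeff_zero_eq_eval_zero]
    have h := coeff_X_pow_mul b m 0
    rw [zero_add, ← hb] at h
    exact h ▸ ham
  have hb1 : P.1 (aeval x b) = 1 := by
    have h := hres (C b)
    rw [ev_apply, eval₂_C, ev_apply, eval₂_C] at h
    exact h.1.eq_of_not_lt fun hlt => hb0 (by simpa using h.2.1 hlt)
  have hmain : P.1 (aeval x a) = P.1 x ^ m := by
    rw [hb, map_mul, map_pow, aeval_X, map_mul, map_pow, hb1, mul_one]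
  rw [hw', map_add, map_mul, map_sub, show ev x y (X : k[X][X]) = y by rw [ev_apply, eval₂_X],
    show ev x y (C φm) = aeval x φm by rw [ev_apply, eval₂_C]; rfl,
    show ev x y (C a) = aeval x a by rw [ev_apply, eval₂_C]; rfl]
  rcases eq_or_ne x 0 with rfl | hx0
  · rw [map_zero] at hyφ
    rw [zero_pow (by omega), le_zero_iff, ← map_zero P.1] at hyφ
    have h4 : (y - aeval (0 : K) φm) = 0 := by simpa using hyφ
    rw [h4, zero_mul, add_zero, hmain]
  · rw [Valuation.map_add_eq_of_lt_left, hmain]
    rw [hmain, map_mul]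
    refine (mul_le_of_le_one_right' (hres w').1).trans_lt (hyφ.trans_lt ?_)
    rw [pow_succ]
    exact mul_lt_of_lt_one_right (pow_pos (zero_lt_iff.2 (hX0 hx0)) _) hx

end Groth.Agent.LangWeil75
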