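import Groth.Agent.LangWeil75.Hypersurface
import Mathlib.FieldTheory.Finite.Basic
import Mathlib.Dynamics.PeriodicPts.Lemmas

/-!
Rational zeros, over the finite extensions of a finite field `k`, of a separable monic equation
irreducible over `k`: with `m` the number of absolutely irreducible factors there are
`m Q ^ r + O(Q ^ (r - 1/2))` of them over a field of `Q` elements whose degree `m` divides, and
`O(Q ^ (r - 1))` over the others.
-/

noncomputable section

universe u v

namespace Groth.Agent.LangWeil75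

open Polynomial Function

/-- The elements fixed by the power map are the rational ones. -/
theorem mem_range_of_pow_card_eq {F : Type u} [Field F] [Finite F] {L : Type v} [Field L] (ι : F →+* L) {x : L}
    (hx : x ^ Nat.card F = x) : x ∈ Set.range ι := by
  classical
  haveI := Fintype.ofFinite F
  have h1 : 1 < Nat.card F := Finite.one_lt_card
  have hne : (X ^ Nat.card F - X : L[X]) ≠ 0 := FiniteField.X_pow_card_sub_X_ne_zero L h1
  set S : Finset L := Finset.univ.image ι
  have hS : S.card = Nat.card F := by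
    rw [Finset.card_image_of_injective _ ι.injective, Finset.card_univ, Nat.card_eq_fintype_card]
  have hsub : S ⊆ (X ^ Nat.card F - X : L[X]).roots.toFinset := fun y hy => by
    obtain ⟨a, -, rfl⟩ := Finset.mem_image.1 hy
    rw [Multiset.mem_toFinset, mem_roots hne, IsRoot, eval_sub, eval_pow, eval_X, ← map_pow,
      Nat.card_eq_fintype_card, FiniteField.pow_card, sub_self]
  have heq := Finset.eq_of_subset_of_card_le hsub (by
    rw [hS]
    refine (Multiset.toFinset_card_le _).trans ((card_roots' _).trans ?_)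
    exact (FiniteField.X_pow_card_sub_X_natDegree_eq L h1).le)
  have hxm : x ∈ S := heq ▸ Multiset.mem_toFinset.2 ((mem_roots hne).2 (by rw [IsRoot, eval_sub, eval_pow, eval_X, hx, sub_self]))
  obtain ⟨a, -, rfl⟩ := Finset.mem_image.1 hxm
  exact ⟨a, rfl⟩

theorem exists_map_eq_of_fixed {F : Type u} [Field F] [Finite F] {L : Type v} [Field L] (ι : F →+* L) {r : ℕ}
    (p : (MvPolynomial (Fin r) L)[X]) (hp : ∀ j d, ((p.coeff j).coeff d) ^ Nat.card F = (p.coeff j).coeff d) :
    ∃ p₀ : (MvPolynomial (Fin r) F)[X], p₀.map (MvPolynomial.map ι) = p := by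
  refine (mem_lifts p).1 ((lifts_iff_coeff_lifts p).2 fun j => ?_)
  refine MvPolynomial.mem_range_map_iff_coeffs_subset.2 fun c hc => ?_
  obtain ⟨d, -, rfl⟩ := MvPolynomial.mem_coeffs_iff.1 hc
  exact mem_range_of_pow_card_eq ι (hp j d)

/-- A monic polynomial over a domain is a product of monic irreducible ones. -/
theorem exists_monic_factors {R : Type*} [CommRing R] [IsDomain R] (H : R[X]) (hH : H.Monic) :
    ∃ s : Multiset R[X], (∀ p ∈ s, p.Monic ∧ Irreducible p) ∧ s.prod = H := by
  generalize hn : H.natDegree = n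
  induction n using Nat.strong_induction_on generalizing H with
  | _ n ih =>
    by_cases h1 : H = 1
    · exact ⟨0, by simp, by simp [h1]⟩
    by_cases hirr : Irreducible H
    · exact ⟨{H}, by simp [hH, hirr], by simp⟩
    rw [hH.irreducible_iff_natDegree] at hirr
    push Not at hirr
    obtain ⟨f, g, hf, hg, hfg, hf0, hg0⟩ := hirr h1
    have hsum : f.natDegree + g.natDegree = n := by rw [← hf.natDegree_mul hg, hfg, hn]
    obtain ⟨s, hs, hsp⟩ := ih f.natDegree (by omega) f hf rfl
    obtain ⟨t, ht, htp⟩ := ih g.natDegree (by omega) g hg rfl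
    exact ⟨s + t, fun p hp => (Multiset.mem_add.1 hp).elim (hs p) (ht p), by rw [Multiset.prod_add, hsp, htp, hfg]⟩

variable {k : Type u} [Field k] [Finite k] {r : ℕ}

/-- The Frobenius of the algebraic closure acting on equations. -/
theorem exists_frobEqn (r : ℕ) :
    ∃ σ : (MvPolynomial (Fin r) (AlgebraicClosure k))[X] ≃+* (MvPolynomial (Fin r) (AlgebraicClosure k))[X],
      (∀ p, p.Monic → (σ p).Monic) ∧
      ∀ p j d, ((σ p).coeff j).coeff d = ((p.coeff j).coeff d) ^ Nat.card k := by
  haveI := Fintype.ofFinite k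
  let fr : AlgebraicClosure k ≃+* AlgebraicClosure k :=
    (FiniteField.frobeniusAlgEquivOfAlgebraic k (AlgebraicClosure k)).toRingEquiv
  have hfr : ∀ x, fr x = x ^ Nat.card k := fun x => by
    rw [Nat.card_eq_fintype_card]
    exact congrFun (FiniteField.coe_frobeniusAlgEquivOfAlgebraic k (AlgebraicClosure k)) x
  generalize fr = e at hfr
  refine ⟨Polynomial.mapEquiv (MvPolynomial.mapEquiv (Fin r) e), fun p hp => ?_, fun p j d => ?_⟩
  · rw [Polynomial.mapEquiv_apply]
    exact hp.map _
  · rw [Polynomial.mapEquiv_apply, coeff_map]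
    show (MvPolynomial.map (e : AlgebraicClosure k →+* AlgebraicClosure k) (p.coeff j)).coeff d = _
    rw [MvPolynomial.coeff_map]
    exact hfr _

/-- The monic irreducible factors over the algebraic closure, permuted cyclically by Frobenius. -/
theorem exists_factors {h a' b' : (MvPolynomial (Fin r) k)[X]} {Δ : MvPolynomial (Fin r) k}
    (hm : h.Monic) (hirr : Irreducible h) (hΔ0 : Δ ≠ 0) (hbez : a' * h + b' * derivative h = C Δ) :
    ∃ S : Finset (MvPolynomial (Fin r) (AlgebraicClosure k))[X],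
      (∀ p ∈ S, p.Monic ∧ Irreducible p ∧ p ∣ h.map (toBar r)) ∧ ∏ p ∈ S, p = h.map (toBar r) ∧
      (∀ p, p.Monic → Irreducible p → p ∣ h.map (toBar r) → p ∈ S) ∧
      ∃ σ : (MvPolynomial (Fin r) (AlgebraicClosure k))[X] → (MvPolynomial (Fin r) (AlgebraicClosure k))[X],
        (∀ e p, p ∈ S → (σ^[e] p = p ↔ S.card ∣ e)) ∧
        (∀ e p j d, (((σ^[e] p).coeff j).coeff d) = ((p.coeff j).coeff d) ^ Nat.card k ^ e) ∧
        ∀ e p, p ∈ S → σ^[e] p ∈ S := by
  classical
  haveI := Fintype.ofFinite k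
  obtain ⟨σ, hσmonic, hcoeff⟩ := exists_frobEqn (k := k) r
  set H := h.map (toBar r) with hH
  have hHm : H.Monic := hm.map _
  have hiter : ∀ e p j d, ((σ^[e] p).coeff j).coeff d = ((p.coeff j).coeff d) ^ Nat.card k ^ e := by
    intro e
    induction e with
    | zero => intro p j d; simp
    | succ e ih => intro p j d; rw [iterate_succ_apply', hcoeff, ih, ← pow_mul, ← pow_succ]
  have hσH : σ H = H := Polynomial.ext fun j => MvPolynomial.ext _ _ fun d => by
    rw [hcoeff, hH, coeff_map, MvPolynomial.coeff_map, ← map_pow, Nat.card_eq_fintype_card, FiniteField.pow_card]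
  obtain ⟨s, hs, hsprod⟩ := exists_monic_factors H hHm
  have hnat : ∀ p : (MvPolynomial (Fin r) (AlgebraicClosure k))[X], p.Monic → Irreducible p → 0 < p.natDegree := by
    intro p hp hpi
    refine Nat.pos_of_ne_zero fun h0 => hpi.not_isUnit ?_
    rw [hp.natDegree_eq_zero.1 h0]
    exact isUnit_one
  have hbezH : a'.map (toBar r) * H + b'.map (toBar r) * derivative H = C (toBar r Δ) := by
    rw [hH, derivative_map, ← Polynomial.map_mul, ← Polynomial.map_mul, ← Polynomial.map_add, hbez, Polynomial.map_C]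
  have hΔ0' : toBar r Δ ≠ 0 := fun h0 => hΔ0
    (MvPolynomial.map_injective _ (algebraMap k (AlgebraicClosure k)).injective (h0.trans (map_zero _).symm))
  have hsq : ∀ p, p.Monic → Irreducible p → ¬ p * p ∣ H := by
    rintro p hp hpi ⟨R, hR⟩
    have hd : p ∣ C (toBar r Δ) := by
      rw [← hbezH]
      refine dvd_add ((Dvd.intro _ (by rw [hR, mul_assoc])).mul_left _) (Dvd.dvd.mul_left ?_ _)
      rw [hR, derivative_mul, derivative_mul]
      exact dvd_add ((dvd_add (dvd_mul_left _ _) (dvd_mul_right _ _)).mul_right _) ((dvd_mul_right _ _).mul_right _)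
    have := natDegree_le_of_dvd hd (C_ne_zero.2 hΔ0')
    rw [natDegree_C] at this
    exact absurd this (not_le.2 (hnat p hp hpi))
  have hnodup : s.Nodup := by
    rw [Multiset.nodup_iff_count_le_one]
    intro p
    by_contra! h2
    have hp : p ∈ s := Multiset.count_pos.1 (by omega)
    refine hsq p (hs p hp).1 (hs p hp).2 ?_
    rw [← hsprod]
    have h3 : Multiset.replicate 2 p ≤ s := Multiset.le_count_iff_replicate_le.1 h2
    have h4 := Multiset.prod_dvd_prod_of_le h3
    rwa [Multiset.prod_replicate, sq] at h4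
  set S := s.toFinset
  have hSprod : ∏ p ∈ S, p = H := by
    rw [Finset.prod_eq_multiset_prod, Multiset.toFinset_val, Multiset.dedup_eq_self.2 hnodup, Multiset.map_id', hsprod]
  have hSmem : ∀ p ∈ S, p.Monic ∧ Irreducible p ∧ p ∣ H := fun p hp =>
    ⟨(hs p (Multiset.mem_toFinset.1 hp)).1, (hs p (Multiset.mem_toFinset.1 hp)).2,
      hSprod ▸ Finset.dvd_prod_of_mem _ hp⟩
  have hcomplete : ∀ p, p.Monic → Irreducible p → p ∣ H → p ∈ S := by
    intro p hp hpi hpd
    rw [← hSprod] at hpd
    obtain ⟨p', hp', hd⟩ := (irreducible_iff_prime.1 hpi).exists_mem_finset_dvd hpd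
    have hassoc := hpi.associated_of_dvd (hSmem p' hp').2.1 hd
    rwa [eq_of_monic_of_associated hp (hSmem p' hp').1 hassoc]
  have hσS : ∀ p ∈ S, σ p ∈ S := fun p hp => by
    have h1 : (σ p).Monic := hσmonic p (hSmem p hp).1
    have h2 : Irreducible (σ p) := (MulEquiv.irreducible_iff σ.toMulEquiv (x := p)).2 (hSmem p hp).2.1
    refine hcomplete _ h1 h2 ?_
    obtain ⟨c, hc⟩ := (hSmem p hp).2.2
    exact ⟨σ c, by rw [← hσH, hc, map_mul]⟩
  have hiterS : ∀ e p, p ∈ S → σ^[e] p ∈ S := fun e => by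
    induction e with
    | zero => exact fun p hp => hp
    | succ e ih => intro p hp; rw [iterate_succ_apply']; exact hσS _ (ih p hp)
  -- an invariant set of factors is empty or everything
  have hinv : ∀ O ⊆ S, O.image σ = O → O.Nonempty → O = S := by
    intro O hO hOσ hne
    have hfix : ∀ O' : Finset (MvPolynomial (Fin r) (AlgebraicClosure k))[X], O'.image σ = O' →
        (∀ p ∈ O', p.Monic) → ∃ g : (MvPolynomial (Fin r) k)[X], g.Monic ∧ g.map (toBar r) = ∏ p ∈ O', p := by
      intro O' hO' hmon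
      have hσg : σ (∏ p ∈ O', p) = ∏ p ∈ O', p := by
        conv_rhs => rw [← hO', Finset.prod_image fun x _ y _ hxy => σ.injective hxy]
        exact map_prod σ _ _
      obtain ⟨g, hg⟩ := exists_map_eq_of_fixed (algebraMap k (AlgebraicClosure k)) (∏ p ∈ O', p) fun j d => by
        rw [← hcoeff, hσg]
      refine ⟨g, monic_of_injective (MvPolynomial.map_injective _ (algebraMap k (AlgebraicClosure k)).injective) ?_, hg⟩
      rw [hg]
      exact monic_prod_of_monic _ _ hmon
    obtain ⟨g, hgm, hg⟩ := hfix O hOσ fun p hp => (hSmem p (hO hp)).1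
    obtain ⟨g', hgm', hg'⟩ := hfix (S \ O) (by
      refine Finset.eq_of_subset_of_card_le (fun x hx => ?_) (by rw [Finset.card_image_of_injective _ σ.injective])
      obtain ⟨p, hp, rfl⟩ := Finset.mem_image.1 hx
      rw [Finset.mem_sdiff] at hp ⊢
      refine ⟨hσS p hp.1, fun hmem => hp.2 ?_⟩
      rw [← hOσ] at hmem
      obtain ⟨p', hp', he⟩ := Finset.mem_image.1 hmem
      rwa [← σ.injective he]) fun p hp => (hSmem p (Finset.mem_sdiff.1 hp).1).1
    have hgg : g * g' = h := Polynomial.map_injective _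
      (MvPolynomial.map_injective _ (algebraMap k (AlgebraicClosure k)).injective)
      (by rw [Polynomial.map_mul, hg, hg', mul_comm, Finset.prod_sdiff hO, hSprod])
    have hpos : ∀ O' ⊆ S, O'.Nonempty → 0 < (∏ p ∈ O', p).natDegree := fun O' hO' ⟨p, hp⟩ => by
      rw [natDegree_prod_of_monic _ _ fun x hx => (hSmem x (hO' hx)).1]
      exact (hnat p (hSmem p (hO' hp)).1 (hSmem p (hO' hp)).2.1).trans_le
        (Finset.single_le_sum (f := fun x => x.natDegree) (fun x _ => Nat.zero_le _) hp)
    have h1 := ((hm.irreducible_iff_natDegree).1 hirr).2 g g' hgm hgm' hgg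
    rw [← hgm.natDegree_map (toBar r), ← hgm'.natDegree_map (toBar r), hg, hg'] at h1
    refine Finset.Subset.antisymm hO fun x hx => ?_
    by_contra hxO
    rcases h1 with h1 | h1
    · exact absurd h1 (hpos O hO hne).ne'
    · exact absurd h1 (hpos _ Finset.sdiff_subset ⟨x, Finset.mem_sdiff.2 ⟨hx, hxO⟩⟩).ne'
  have hperiod : ∀ p ∈ S, minimalPeriod σ p = S.card := by
    intro p hp
    have hper : p ∈ periodicPts σ := by
      obtain ⟨i, j, hij, he⟩ : ∃ i j : ℕ, i < j ∧ σ^[i] p = σ^[j] p := by
        obtain ⟨x, y, hne, he⟩ := Finite.exists_ne_map_eq_of_infinite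
          fun e : ℕ => (⟨σ^[e] p, hiterS e p hp⟩ : S)
        rcases lt_or_gt_of_ne hne with hl | hl
        · exact ⟨x, y, hl, congrArg Subtype.val he⟩
        · exact ⟨y, x, hl, (congrArg Subtype.val he).symm⟩
      refine mk_mem_periodicPts (n := j - i) (Nat.sub_pos_of_lt hij) (Function.Injective.iterate σ.injective i ?_)
      show σ^[i] (σ^[j - i] p) = σ^[i] p
      rw [← iterate_add_apply, show i + (j - i) = j by omega]
      exact he.symm
    have hpos := minimalPeriod_pos_of_mem_periodicPts hper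
    set O := (Finset.range (minimalPeriod σ p)).image fun e => σ^[e] p
    have hO : O ⊆ S := fun x hx => by
      obtain ⟨e, -, rfl⟩ := Finset.mem_image.1 hx
      exact hiterS e p hp
    have hOσ : O.image σ = O := by
      refine Finset.eq_of_subset_of_card_le (fun x hx => ?_) (by rw [Finset.card_image_of_injective _ σ.injective])
      obtain ⟨y, hy, rfl⟩ := Finset.mem_image.1 hx
      obtain ⟨e, -, rfl⟩ := Finset.mem_image.1 hy
      refine Finset.mem_image.2 ⟨(e + 1) % minimalPeriod σ p, Finset.mem_range.2 (Nat.mod_lt _ hpos), ?_⟩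
      show σ^[(e + 1) % minimalPeriod σ p] p = σ (σ^[e] p)
      rw [iterate_mod_minimalPeriod_eq, iterate_succ_apply']
    rw [← hinv O hO hOσ ⟨p, Finset.mem_image.2 ⟨0, Finset.mem_range.2 hpos, rfl⟩⟩,
      Finset.card_image_of_injOn (fun x hx y hy hxy =>
        iterate_injOn_Iio_minimalPeriod (Finset.mem_range.1 hx) (Finset.mem_range.1 hy) hxy), Finset.card_range]
  refine ⟨S, hSmem, hSprod, hcomplete, σ, fun e p hp => ?_, hiter, hiterS⟩
  rw [← hperiod p hp, ← isPeriodicPt_iff_minimalPeriod_dvd]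
  rfl

/-- The number of absolutely irreducible factors. -/
def numFactors (h : (MvPolynomial (Fin r) k)[X]) : ℕ :=
  Nat.card {p : (MvPolynomial (Fin r) (AlgebraicClosure k))[X] // p.Monic ∧ Irreducible p ∧ p ∣ h.map (toBar r)}

/-- A separable factor inherits a Bezout relation. -/
theorem bezout_of_mul {R : Type*} [CommRing R] {H p R' a b c : R[X]} (hH : H = p * R')
    (hbez : a * H + b * derivative H = c) :
    (a * R' + b * derivative R') * p + b * R' * derivative p = c := by
  rw [← hbez, hH, derivative_mul]; ring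

theorem root_cast {F : Type u} [Field F] {L : Type v} [Field L] (ι : F →+* L)
    (p : (MvPolynomial (Fin r) F)[X]) (a : Fin r → F) (z : F) :
    ((p.map (MvPolynomial.map ι)).map (MvPolynomial.eval fun i => ι (a i))).eval (ι z) =
      ι ((p.map (MvPolynomial.eval a)).eval z) := by
  have h1 : (MvPolynomial.eval fun i => ι (a i)).comp (MvPolynomial.map ι) = ι.comp (MvPolynomial.eval a) :=
    MvPolynomial.ringHom_ext (fun c => by simp) fun i => by simp
  rw [Polynomial.map_map, h1, ← Polynomial.map_map, eval_map_apply]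

theorem root_pow {L : Type v} [Field L] (p q : (MvPolynomial (Fin r) L)[X]) (Q : ℕ) (φ : L →+* L)
    (hφ : ∀ x, φ x = x ^ Q) (hq : ∀ j d, (q.coeff j).coeff d = ((p.coeff j).coeff d) ^ Q)
    (a : Fin r → L) (z : L) (ha : ∀ i, a i ^ Q = a i) (hz : z ^ Q = z)
    (h : (p.map (MvPolynomial.eval a)).eval z = 0) : (q.map (MvPolynomial.eval a)).eval z = 0 := by
  have hqp : q = p.map (MvPolynomial.map φ) := Polynomial.ext fun j => MvPolynomial.ext _ _ fun d => by
    rw [hq, coeff_map, MvPolynomial.coeff_map, hφ]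
  have h1 := congrArg φ h
  rw [map_zero, ← root_cast φ p a z, ← hqp] at h1
  simpa only [hφ, ha, hz] using h1

set_option maxHeartbeats 800000 in
/-- **Zeros of a separable irreducible equation over the finite extensions.** -/
theorem card_pts_equation {h a' b' : (MvPolynomial (Fin r) k)[X]} {Δ : MvPolynomial (Fin r) k}
    (hm : h.Monic) (hirr : Irreducible h) (hΔ0 : Δ ≠ 0) (hbez : a' * h + b' * derivative h = C Δ) :
    0 < numFactors h ∧ ∃ Cst : ℕ, ∀ (F : Type u) [Field F] [Algebra k F] [Finite F],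
      (numFactors h ∣ Module.finrank k F →
        |(Nat.card (Pts (h.map (MvPolynomial.map (algebraMap k F)))) : ℝ) -
            numFactors h * (Nat.card F : ℝ) ^ r| ≤
          Cst * ((Nat.card F : ℝ) ^ r / Real.sqrt (Nat.card F))) ∧
      (¬ numFactors h ∣ Module.finrank k F →
        Nat.card (Pts (h.map (MvPolynomial.map (algebraMap k F)))) * Nat.card F ≤ Cst * Nat.card F ^ r) := by
  classical
  obtain ⟨S, hS, hSprod, hScomp, σ, hσ, hσc, hσS⟩ := exists_factors hm hirr hΔ0 hbez
  have hm' : numFactors h = S.card := by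
    rw [numFactors, ← Nat.card_eq_finsetCard S]
    exact Nat.card_congr (Equiv.subtypeEquivRight fun p =>
      ⟨fun ⟨h1, h2, h3⟩ => hScomp p h1 h2 h3, fun hp => hS p hp⟩)
  rw [hm']
  have hdpos : 0 < h.natDegree := by
    refine Nat.pos_of_ne_zero fun h0 => hirr.not_isUnit ?_
    rw [hm.natDegree_eq_zero.1 h0]
    exact isUnit_one
  have hne : S.Nonempty := by
    by_contra hS0
    rw [Finset.not_nonempty_iff_eq_empty.1 hS0, Finset.prod_empty] at hSprod
    have := congrArg natDegree hSprod
    rw [natDegree_one, hm.natDegree_map] at this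
    omega
  refine ⟨Finset.card_pos.2 hne, ?_⟩
  set D := h.natDegree + Δ.totalDegree + S.sup fun p => p.support.sup fun j => (p.coeff j).totalDegree with hD
  set m := S.card
  refine ⟨m * hyperConst D + (m + 1) * (D * D) + 1, fun F _ _ _ => ?_⟩
  haveI := Fintype.ofFinite F
  set Q := Nat.card F with hQdef
  set e := Module.finrank k F
  have hQe : Q = Nat.card k ^ e := Module.natCard_eq_pow_finrank (K := k) (V := F)
  let ιA : F →ₐ[k] AlgebraicClosure k := IsAlgClosed.lift
  let ι : F →+* AlgebraicClosure k := ιA.toRingHom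
  have hιk : ι.comp (algebraMap k F) = algebraMap k (AlgebraicClosure k) := ιA.comp_algebraMap
  set hF := h.map (MvPolynomial.map (algebraMap k F))
  set ΔF := MvPolynomial.map (algebraMap k F) Δ
  have hFm : hF.Monic := hm.map _
  have hFbar : hF.map (MvPolynomial.map ι) = h.map (toBar r) := by
    rw [Polynomial.map_map]
    congr 1
    exact RingHom.ext fun p => by rw [RingHom.comp_apply, MvPolynomial.map_map, hιk]
  have hFbez : a'.map (MvPolynomial.map (algebraMap k F)) * hF +
      b'.map (MvPolynomial.map (algebraMap k F)) * derivative hF = C ΔF := by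
    rw [derivative_map, ← Polynomial.map_mul, ← Polynomial.map_mul, ← Polynomial.map_add, hbez, Polynomial.map_C]
  have hΔF0 : ΔF ≠ 0 := fun h0 => hΔ0
    (MvPolynomial.map_injective _ (algebraMap k F).injective (h0.trans (map_zero _).symm))
  have hΔFd : ΔF.totalDegree ≤ D := (Finset.sup_mono (MvPolynomial.support_map_subset _ _)).trans (by
    show Δ.totalDegree ≤ D
    omega)
  have hFd : hF.natDegree ≤ D := natDegree_map_le.trans (by omega)
  -- the degenerate zeros
  have hbad : Nat.card {p : Pts hF // MvPolynomial.eval p.1.1 ΔF = 0} * Q ≤ D * D * Q ^ r := by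
    refine (Nat.mul_le_mul_right _ (card_fibre_le hFm hFd fun a => MvPolynomial.eval a ΔF = 0)).trans ?_
    rw [mul_assoc, mul_assoc]
    exact Nat.mul_le_mul_left _ ((card_zeros_mul_le (RingHom.id F) hΔF0).trans (Nat.mul_le_mul_right _ hΔFd))
  have hιQ : ∀ x : F, ι x ^ Q = ι x := fun x => by
    rw [← map_pow, hQdef, Nat.card_eq_fintype_card, FiniteField.pow_card]
  -- at the other zeros exactly one factor vanishes, and it is fixed
  have hgood : ∀ P : Pts hF, MvPolynomial.eval P.1.1 ΔF ≠ 0 →
      ∃ p ∈ S, σ^[e] p = p ∧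
        (p.map (MvPolynomial.eval fun i => ι (P.1.1 i))).eval (ι P.1.2) = 0 ∧
        ∀ p' ∈ S, (p'.map (MvPolynomial.eval fun i => ι (P.1.1 i))).eval (ι P.1.2) = 0 → p' = p := by
    intro P hP
    set ev0 := MvPolynomial.eval fun i => ι (P.1.1 i)
    set z := ι P.1.2
    have h0 : ∏ p ∈ S, (p.map ev0).eval z = 0 := by
      rw [← eval_prod, ← Polynomial.map_prod, hSprod, ← hFbar]
      exact (root_cast ι hF P.1.1 P.1.2).trans (by rw [P.2, map_zero])
    obtain ⟨p, hp, hp0⟩ := Finset.prod_eq_zero_iff.1 h0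
    have huniq : ∀ p' ∈ S, (p'.map ev0).eval z = 0 → p' = p := by
      intro p' hp' hp'0
      by_contra hne'
      have hdvd : p * p' ∣ h.map (toBar r) := by
        rw [← hSprod, ← Finset.prod_pair (Ne.symm hne') (f := fun x => x)]
        exact Finset.prod_dvd_prod_of_subset _ _ _ (by simp [Finset.insert_subset_iff, hp, hp'])
      obtain ⟨R, hR⟩ := hdvd
      have hb := congrArg (fun f => ((f.map (toBar r)).map ev0).eval z) hbez
      simp only [Polynomial.map_add, Polynomial.map_mul, ← derivative_map, hR, derivative_mul, eval_add,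
        eval_mul, hp0, hp'0, Polynomial.map_C, eval_C, mul_zero, zero_mul, add_zero] at hb
      refine hP (ι.injective ?_)
      rw [map_zero, hb]
      exact RingHom.congr_fun (MvPolynomial.ringHom_ext (f := ι.comp ((MvPolynomial.eval P.1.1).comp
        (MvPolynomial.map (algebraMap k F)))) (g := ev0.comp (toBar r))
        (fun c => by simpa [ev0] using RingHom.congr_fun hιk c) fun i => by simp [ev0]) Δ
    refine ⟨p, hp, huniq _ (hσS e p hp) ?_, hp0, huniq⟩
    obtain ⟨pr, hprime⟩ := CharP.exists (AlgebraicClosure k)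
    obtain ⟨n, hn⟩ : ∃ n : ℕ, Q = pr ^ n := by
      haveI : CharP F pr := (RingHom.charP_iff_charP ι pr).2 hprime
      obtain ⟨n, -, hn⟩ := FiniteField.card F pr
      exact ⟨n, by rw [hQdef, Nat.card_eq_fintype_card, hn]⟩
    haveI : Fact pr.Prime := ⟨by
      haveI : CharP F pr := (RingHom.charP_iff_charP ι pr).2 hprime
      obtain ⟨-, hp2, -⟩ := FiniteField.card F pr
      exact hp2⟩
    haveI : ExpChar (AlgebraicClosure k) pr := ExpChar.prime Fact.out
    exact root_pow p (σ^[e] p) Q (iterateFrobenius (AlgebraicClosure k) pr n)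
      (fun x => by rw [iterateFrobenius_def, hn]) (fun j d => by rw [hσc, hQe]) _ _
      (fun i => hιQ _) (hιQ _) hp0
  have hQpos : 0 < Q := Nat.card_pos
  constructor
  swap
  · -- no factor is fixed
    intro hdiv
    have hall : ∀ P : Pts hF, MvPolynomial.eval P.1.1 ΔF = 0 := fun P => by
      by_contra hP
      obtain ⟨p, hp, hfix, -⟩ := hgood P hP
      exact hdiv ((hσ e p hp).1 hfix)
    rw [← Nat.card_congr (Equiv.subtypeUnivEquiv hall)]
    refine hbad.trans (Nat.mul_le_mul_right _ ?_)
    nlinarith [Nat.zero_le (m * hyperConst D), Nat.zero_le (m * (D * D))]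
  -- every factor is defined over `F`
  intro hdiv
  have hlift : ∀ p ∈ S, ∃ p₀ : (MvPolynomial (Fin r) F)[X], p₀.map (MvPolynomial.map ι) = p := fun p hp =>
    exists_map_eq_of_fixed ι p fun j d => by
      rw [← hQdef, hQe, ← hσc, (hσ e p hp).2 hdiv]
  choose p₀ hp₀ using hlift
  have hinjι : Function.Injective (MvPolynomial.map ι : MvPolynomial (Fin r) F → _) :=
    MvPolynomial.map_injective _ ι.injective
  have hsum : ∀ p, (hp : p ∈ S) → |(Nat.card (Pts (p₀ p hp)) : ℝ) - (Q : ℝ) ^ r| ≤
      hyperConst D * ((Q : ℝ) ^ r / Real.sqrt Q) := by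
    intro p hp
    obtain ⟨R, hR⟩ := (hS p hp).2.2
    have hpm : (p₀ p hp).Monic := monic_of_injective hinjι (by rw [hp₀]; exact (hS p hp).1)
    have hdvdF : p₀ p hp ∣ hF := (Polynomial.map_dvd_map (MvPolynomial.map ι) hinjι hpm).1
      (by rw [hp₀, hFbar]; exact (hS p hp).2.2)
    obtain ⟨RF, hRF⟩ := hdvdF
    refine card_pts_sub_le (D := D) hpm ?_ (fun j => ?_) hΔF0 hΔFd (bezout_of_mul hRF hFbez) ?_
    · exact (natDegree_le_of_dvd ⟨RF, hRF⟩ hFm.ne_zero).trans hFd
    · have h2 : ((p₀ p hp).coeff j).totalDegree ≤ (p.coeff j).totalDegree := by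
        have hsupp : (p.coeff j).support = ((p₀ p hp).coeff j).support := by
          conv_lhs => rw [← hp₀ p hp, coeff_map]
          exact MvPolynomial.support_map_of_injective _ ι.injective
        exact (Finset.sup_mono hsupp.symm.subset)
      refine h2.trans ?_
      by_cases hj : j ∈ p.support
      · exact ((Finset.le_sup (f := fun j => (p.coeff j).totalDegree) hj).trans
          (Finset.le_sup (f := fun p : (MvPolynomial (Fin r) (AlgebraicClosure k))[X] =>
            p.support.sup fun j => (p.coeff j).totalDegree) hp)).trans (by omega)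
      · rw [notMem_support_iff.1 hj, MvPolynomial.totalDegree_zero]
        exact Nat.zero_le _
    · letI : Algebra F (AlgebraicClosure k) := ι.toAlgebra
      haveI : IsScalarTower k F (AlgebraicClosure k) := IsScalarTower.of_algebraMap_eq' hιk.symm
      haveI : Algebra.IsAlgebraic F (AlgebraicClosure k) :=
        Algebra.IsAlgebraic.tower_top (K := k) F
      haveI : IsAlgClosure F (AlgebraicClosure k) := ⟨inferInstance, inferInstance⟩
      let eq := (IsAlgClosure.equiv F (AlgebraicClosure k) (AlgebraicClosure F)).toRingEquiv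
      let E := Polynomial.mapEquiv (MvPolynomial.mapEquiv (Fin r) eq)
      have hE : E p = (p₀ p hp).map (toBar r) := Polynomial.ext fun j => MvPolynomial.ext _ _ fun d => by
        conv_lhs => rw [← hp₀ p hp]
        rw [Polynomial.mapEquiv_apply, coeff_map, coeff_map]
        show (MvPolynomial.map (eq : AlgebraicClosure k →+* AlgebraicClosure F)
          ((MvPolynomial.map ι) ((p₀ p hp).coeff j))).coeff d = _
        rw [MvPolynomial.coeff_map, MvPolynomial.coeff_map, coeff_map, MvPolynomial.coeff_map]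
        exact (IsAlgClosure.equiv F (AlgebraicClosure k) (AlgebraicClosure F)).commutes _
      rw [← hE]
      exact (MulEquiv.irreducible_iff E.toMulEquiv (x := p)).2 (hS p hp).2.1
  -- splitting the zeros
  let NB := Nat.card {P : Pts hF // MvPolynomial.eval P.1.1 ΔF = 0}
  let U := Σ p : {p // p ∈ S}, Pts (p₀ p.1 p.2)
  have hroot : ∀ (p) (hp : p ∈ S) (a : Fin r → F) (z : F),
      (p.map (MvPolynomial.eval fun i => ι (a i))).eval (ι z) = 0 ↔
        ((p₀ p hp).map (MvPolynomial.eval a)).eval z = 0 := fun p hp a z => by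
    conv_lhs => rw [← hp₀ p hp, root_cast]
    exact map_eq_zero ι
  have hupper : Nat.card (Pts hF) ≤ Nat.card U + NB := by
    rw [← Nat.card_sum]
    have hex : ∀ P : Pts hF, MvPolynomial.eval P.1.1 ΔF ≠ 0 →
        ∃ p : {p // p ∈ S}, ((p₀ p.1 p.2).map (MvPolynomial.eval P.1.1)).eval P.1.2 = 0 := fun P hP => by
      obtain ⟨p, hp, -, h1, -⟩ := hgood P hP
      exact ⟨⟨p, hp⟩, (hroot p hp _ _).1 h1⟩
    choose pc hpc using hex
    refine Nat.card_le_card_of_injective
      (fun P => if hP : MvPolynomial.eval P.1.1 ΔF = 0 then (Sum.inr ⟨P, hP⟩ : U ⊕ _)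
        else Sum.inl ⟨pc P hP, ⟨P.1, hpc P hP⟩⟩) fun P P' hPP => ?_
    simp only at hPP
    split_ifs at hPP
    · exact congrArg Subtype.val (Sum.inr.inj hPP)
    · exact Subtype.ext (congrArg (fun x : U => x.2.1) (Sum.inl.inj hPP))
  have hlower : Nat.card U ≤ Nat.card (Pts hF) + m * NB := by
    have hsub : ∀ x : U, (hF.map (MvPolynomial.eval x.2.1.1)).eval x.2.1.2 = 0 := fun x => by
      refine ι.injective ?_
      rw [← root_cast ι hF, hFbar, map_zero, ← hSprod, Polynomial.map_prod, eval_prod]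
      exact Finset.prod_eq_zero x.1.2 ((hroot x.1.1 x.1.2 _ _).2 x.2.2)
    rw [show m * NB = Nat.card ({p // p ∈ S} × {P : Pts hF // MvPolynomial.eval P.1.1 ΔF = 0}) by
      rw [Nat.card_prod, Nat.card_eq_finsetCard], ← Nat.card_sum]
    refine Nat.card_le_card_of_injective
      (fun x : U => if hx : MvPolynomial.eval x.2.1.1 ΔF = 0 then
          (Sum.inr (x.1, ⟨⟨x.2.1, hsub x⟩, hx⟩) : Pts hF ⊕ _)
        else Sum.inl ⟨x.2.1, hsub x⟩) fun x x' hxx => ?_
    obtain ⟨p, P, hP⟩ := x
    obtain ⟨p', P', hP'⟩ := x'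
    simp only at hxx
    split_ifs at hxx with h1 h2 h3
    · obtain ⟨rfl, h4⟩ := Prod.mk.inj (Sum.inr.inj hxx)
      obtain rfl : P = P' := congrArg (fun y => y.1.1) h4
      rfl
    · obtain rfl : P = P' := congrArg Subtype.val (Sum.inl.inj hxx)
      obtain ⟨pu, -, -, -, hu⟩ := hgood ⟨P, hsub ⟨p, P, hP⟩⟩ h1
      obtain rfl : p = p' := Subtype.ext ((hu p.1 p.2 ((hroot _ _ _ _).2 hP)).trans
        (hu p'.1 p'.2 ((hroot _ _ _ _).2 hP')).symm)
      rfl
  have hU : |(Nat.card U : ℝ) - m * (Q : ℝ) ^ r| ≤ m * (hyperConst D * ((Q : ℝ) ^ r / Real.sqrt Q)) := by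
    rw [Nat.card_sigma, Nat.cast_sum,
      show (m : ℝ) * (Q : ℝ) ^ r = ∑ _p : {p // p ∈ S}, (Q : ℝ) ^ r by
        rw [Finset.sum_const, Finset.card_univ, Fintype.card_coe, nsmul_eq_mul],
      ← Finset.sum_sub_distrib]
    refine (Finset.abs_sum_le_sum_abs _ _).trans ((Finset.sum_le_sum fun p _ => hsum p.1 p.2).trans ?_)
    rw [Finset.sum_const, Finset.card_univ, Fintype.card_coe, nsmul_eq_mul]
  have hNB : (NB : ℝ) ≤ (D : ℝ) * D * ((Q : ℝ) ^ r / Real.sqrt Q) := by
    have h1 : (NB : ℝ) * Q ≤ (D : ℝ) * D * (Q : ℝ) ^ r := by exact_mod_cast hbad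
    have hQ1 : (1 : ℝ) ≤ Q := by exact_mod_cast hQpos
    rw [← mul_div_assoc, le_div_iff₀ (Real.sqrt_pos.2 (by linarith))]
    refine le_trans (mul_le_mul_of_nonneg_left ?_ (Nat.cast_nonneg _)) h1
    calc Real.sqrt Q ≤ Real.sqrt Q * Real.sqrt Q :=
          le_mul_of_one_le_left (Real.sqrt_nonneg _) (Real.one_le_sqrt.2 hQ1)
      _ = Q := Real.mul_self_sqrt (Nat.cast_nonneg _)
  have hu' : (Nat.card (Pts hF) : ℝ) ≤ Nat.card U + NB := by exact_mod_cast hupper
  have hl' : (Nat.card U : ℝ) ≤ Nat.card (Pts hF) + m * NB := by exact_mod_cast hlower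
  have hB : (0 : ℝ) ≤ (Q : ℝ) ^ r / Real.sqrt Q := by positivity
  have hmn : (m : ℝ) * NB ≤ m * ((D : ℝ) * D * ((Q : ℝ) ^ r / Real.sqrt Q)) :=
    mul_le_mul_of_nonneg_left hNB (Nat.cast_nonneg _)
  have hU' := abs_le.1 hU
  have hm0 : (0 : ℝ) ≤ m * NB := by positivity
  have hn0 : (0 : ℝ) ≤ NB := Nat.cast_nonneg _
  push_cast
  rw [abs_le]
  constructor <;> nlinarith

end Groth.Agent.LangWeil75
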