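import Groth.Agent.LangWeil75.Model
import Groth.Agent.VarDim.Top
import Groth.Agent.ZetaLib.PointsOfExt
import Mathlib.AlgebraicGeometry.Morphisms.Flat
import Mathlib.AlgebraicGeometry.Morphisms.UniversallyOpen
import Mathlib.AlgebraicGeometry.Pullbacks

/-!
The points and the geometric components attached to an irreducible component of a scheme of finite
type over a finite field.
-/

noncomputable section

universe u v

open CategoryTheory CategoryTheory.Limits AlgebraicGeometry TopologicalSpace
open scoped TensorProduct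

namespace Groth.Agent.LangWeil75

section Topology

variable {Y : Type u} [TopologicalSpace Y]

/-- Components of a subspace and of an open meeting all of them. -/
theorem card_irreducibleComponents_open (O : Set Y) (hO : IsOpen O)
    (h : ∀ C ∈ irreducibleComponents Y, (C ∩ O).Nonempty) :
    Nat.card (irreducibleComponents Y) = Nat.card (irreducibleComponents ↥O) := by
  have hval : Topology.IsOpenEmbedding (Subtype.val : O → Y) := hO.isOpenEmbedding_subtypeVal
  have hne : ∀ C ∈ irreducibleComponents Y, (C ∩ Set.range (Subtype.val : O → Y)).Nonempty := fun C hC => by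
    rw [Subtype.range_coe]; exact h C hC
  have hclosure : ∀ C ∈ irreducibleComponents Y,
      closure (Subtype.val '' ((Subtype.val : O → Y) ⁻¹' C)) = C := fun C hC =>
    closure_image_preimage_of_isPreirreducible _ hval.isOpenMap C
      (Set.nonempty_def.2 (by obtain ⟨y, hy1, y', rfl⟩ := hne C hC; exact ⟨y', hy1⟩))
      hC.1.2 (isClosed_of_mem_irreducibleComponents C hC)
  refine Nat.card_eq_of_bijective (fun C : irreducibleComponents Y => (⟨Subtype.val ⁻¹' C.1,
    preimage_mem_irreducibleComponents C.2 hval (hne C.1 C.2)⟩ : irreducibleComponents ↥O)) ⟨fun C C' hCC => ?_, fun D => ?_⟩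
  · refine Subtype.ext ?_
    have h' : (Subtype.val : O → Y) ⁻¹' C.1 = Subtype.val ⁻¹' C'.1 := congrArg Subtype.val hCC
    rw [← hclosure C.1 C.2, ← hclosure C'.1 C'.2, h']
  · obtain ⟨C, hC, hDC⟩ := exists_mem_irreducibleComponents_subset_of_isIrreducible _
      (D.2.1.image Subtype.val continuous_subtype_val.continuousOn)
    refine ⟨⟨C, hC⟩, Subtype.ext ?_⟩
    have hsub : D.1 ⊆ Subtype.val ⁻¹' C := Set.image_subset_iff.1 hDC
    exact (hsub.antisymm (D.2.2 ((preimage_mem_irreducibleComponents hC hval (hne C hC)).1) hsub)).symm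

theorem card_irreducibleComponents_homeomorph {Z : Type u} [TopologicalSpace Z] (e : Y ≃ₜ Z) :
    Nat.card (irreducibleComponents Y) = Nat.card (irreducibleComponents Z) :=
  Nat.card_congr (irreducibleComponentsEquivOfIsPreirreducibleFiber e e.continuous e.isOpenMap
    (fun _ => (Set.subsingleton_singleton.preimage e.injective).isPreirreducible) e.surjective).symm.toEquiv

theorem card_irreducibleComponents_spec (R : Type u) [CommRing R] :
    Nat.card (irreducibleComponents (PrimeSpectrum R)) = Nat.card (minimalPrimes R) :=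
  Nat.card_congr ((minimalPrimes.equivIrreducibleComponents R).toEquiv.trans OrderDual.ofDual).symm

end Topology

variable {k : Type u} [Field k]

theorem geomNum_reduced (A : Type u) [CommRing A] [Algebra k A] :
    geomNum k A = geomNum k (A ⧸ nilradical A) := by
  let T := AlgebraicClosure k
  let g : A →ₐ[k] A ⧸ nilradical A := Ideal.Quotient.mkₐ k _
  let G := Algebra.TensorProduct.map (AlgHom.id k T) g
  have hg : Function.Surjective g := Ideal.Quotient.mk_surjective
  have hG : Function.Surjective G.toRingHom := by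
    intro x
    induction x using TensorProduct.induction_on with
    | zero => exact ⟨0, map_zero _⟩
    | tmul t y =>
      obtain ⟨a, rfl⟩ := hg y
      exact ⟨t ⊗ₜ a, Algebra.TensorProduct.map_tmul _ _ _ _⟩
    | add x y hx hy =>
      obtain ⟨a, rfl⟩ := hx
      obtain ⟨b, rfl⟩ := hy
      exact ⟨a + b, map_add _ _ _⟩
  have hker : RingHom.ker G.toRingHom ≤ nilradical (T ⊗[k] A) := by
    show RingHom.ker G ≤ _
    rw [Algebra.TensorProduct.lTensor_ker _ hg, Ideal.map_le_iff_le_comap]
    intro a ha
    have ha' : IsNilpotent a := mem_nilradical.1 (Ideal.Quotient.eq_zero_iff_mem.1 ha)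
    exact mem_nilradical.2 (ha'.map _)
  have hmin : (RingHom.ker G.toRingHom).minimalPrimes = (⊥ : Ideal (T ⊗[k] A)).minimalPrimes := by
    rw [← Ideal.radical_minimalPrimes (I := RingHom.ker G.toRingHom),
      ← Ideal.radical_minimalPrimes (I := (⊥ : Ideal (T ⊗[k] A)))]
    congr 1
    refine le_antisymm ?_ (Ideal.radical_mono bot_le)
    exact (Ideal.radical_mono hker).trans (Ideal.radical_idem _).le
  show Nat.card (⊥ : Ideal (T ⊗[k] A)).minimalPrimes = Nat.card (⊥ : Ideal (T ⊗[k] (A ⧸ nilradical A))).minimalPrimes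
  rw [← hmin, RingHom.ker_eq_comap_bot, Ideal.comap_minimalPrimes_eq_of_surjective hG]
  exact Nat.card_image_of_injective (Ideal.comap_injective_of_surjective _ hG) _

variable {X : Scheme.{u}} (f : X ⟶ Spec (CommRingCat.of k))

/-- Points over `F` with image in a set. -/
abbrev PtsIn (s : Set X) (F : Type u) [Field F] [Algebra k F] : Type u :=
  {g : Spec (CommRingCat.of F) ⟶ X //
    g ≫ f = Spec.map (CommRingCat.ofHom (algebraMap k F)) ∧ g (IsLocalRing.closedPoint F) ∈ s}

theorem range_point_subset {F : Type u} [Field F] {Y : Scheme.{u}} (g : Spec (CommRingCat.of F) ⟶ X) (j : Y ⟶ X)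
    (h : g (IsLocalRing.closedPoint F) ∈ Set.range j) : Set.range g ⊆ Set.range j := by
  rintro _ ⟨y, rfl⟩
  obtain rfl : y = IsLocalRing.closedPoint F := Subsingleton.elim _ _
  exact h

theorem preimage_lift_map {R A : CommRingCat.{u}} (j : Spec A ⟶ X) [IsOpenImmersion j] (φ : A ⟶ R)
    (h : Set.range (Spec.map φ ≫ j) ⊆ Set.range j) :
    Spec.preimage (IsOpenImmersion.lift j (Spec.map φ ≫ j) h) = φ := by
  refine Spec.map_injective ?_
  rw [Spec.map_preimage]
  exact (cancel_mono j).1 (IsOpenImmersion.lift_fac j _ _)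

/-- The points in an open immersed affine scheme. -/
def ptsInOpenEquiv (A : Type u) [CommRing A] [Algebra k A] (j : Spec (CommRingCat.of A) ⟶ X) [IsOpenImmersion j]
    (hj : j ≫ f = Spec.map (CommRingCat.ofHom (algebraMap k A))) (F : Type u) [Field F] [Algebra k F] :
    PtsIn f (Set.range j) F ≃ (A →ₐ[k] F) where
  toFun g :=
    { (Spec.preimage (IsOpenImmersion.lift j g.1 (range_point_subset g.1 j g.2.2))).hom with
      commutes' := fun c => by
        have h := g.2.1
        rw [← IsOpenImmersion.lift_fac j g.1 (range_point_subset g.1 j g.2.2), Category.assoc, hj] at h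
        have h3 : Spec.map (CommRingCat.ofHom (algebraMap k A) ≫
              Spec.preimage (IsOpenImmersion.lift j g.1 (range_point_subset g.1 j g.2.2))) =
            Spec.map (CommRingCat.ofHom (algebraMap k F)) := by
          rw [Spec.map_comp, Spec.map_preimage]
          exact h
        exact congrArg (fun (φ : CommRingCat.of k ⟶ CommRingCat.of F) => φ.hom c) (Spec.map_injective h3) }
  invFun φ := ⟨Spec.map (CommRingCat.ofHom (φ : A →+* F)) ≫ j, by
      rw [Category.assoc, hj, ← Spec.map_comp, ← CommRingCat.ofHom_comp, AlgHom.comp_algebraMap],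
    ⟨_, rfl⟩⟩
  left_inv g := Subtype.ext (by
    show Spec.map (Spec.preimage (IsOpenImmersion.lift j g.1 (range_point_subset g.1 j g.2.2))) ≫ j = g.1
    rw [Spec.map_preimage, IsOpenImmersion.lift_fac])
  right_inv φ := AlgHom.ext fun a =>
    RingHom.congr_fun (congrArg CommRingCat.Hom.hom
      (preimage_lift_map j (CommRingCat.ofHom (φ : A →+* F)) _)) a

/-- The components of the preimage of a component over an algebraic closure. -/
theorem card_components_preimage (A : Type u) [CommRing A] [Algebra k A] (j : Spec (CommRingCat.of A) ⟶ X)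
    [IsOpenImmersion j] (hj : j ≫ f = Spec.map (CommRingCat.ofHom (algebraMap k A))) {Z : Set X}
    (hZ : IsClosed Z) (hZi : IsIrreducible Z) (hjZ : Set.range j ⊆ Z) (hne : (Set.range j).Nonempty) :
    Nat.card (irreducibleComponents ↥((pullback.fst f (Spec.map (CommRingCat.ofHom
      (algebraMap k (AlgebraicClosure k))))).base ⁻¹' Z)) = geomNum k A := by
  set g := Spec.map (CommRingCat.ofHom (algebraMap k (AlgebraicClosure k)))
  set p := pullback.fst f g with hp
  haveI : Flat g := by
    rw [HasRingHomProperty.Spec_iff (P := @Flat)]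
    show (algebraMap k (AlgebraicClosure k)).Flat
    rw [RingHom.flat_algebraMap_iff]
    infer_instance
  haveI : Flat p := inferInstanceAs (Flat (pullback.fst f g))
  set s : Set ↥(pullback f g) := p.base ⁻¹' Z with hs
  have hsc : IsClosed s := hZ.preimage p.continuous
  let O : Set ↥s := {y | p.base y.1 ∈ Set.range j}
  have hOopen : IsOpen O := j.isOpenEmbedding.isOpen_range.preimage (p.continuous.comp continuous_subtype_val)
  have hmeet : ∀ C ∈ irreducibleComponents ↥s, (C ∩ O).Nonempty := by
    intro C hC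
    have hCc : IsClosed C := isClosed_of_mem_irreducibleComponents C hC
    have hCi : IsIrreducible (Subtype.val '' C) := hC.1.image _ continuous_subtype_val.continuousOn
    obtain ⟨η, hη⟩ := QuasiSober.sober hCi (hsc.isClosedEmbedding_subtypeVal.isClosedMap C hCc)
    have hηC : η ∈ Subtype.val '' C := hη.mem
    obtain ⟨η', hη'C, rfl⟩ := hηC
    obtain ⟨ξ, hξ⟩ := QuasiSober.sober hZi hZ
    obtain ⟨y, hy, hye⟩ := AlgebraicGeometry.Flat.generalizingMap p (hξ.specializes η'.2)
    have hys : y ∈ s := by
      show p.base y ∈ Z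
      rw [hye]; exact hξ.mem
    refine ⟨⟨y, hys⟩, ?_, ?_⟩
    · have hirr : IsIrreducible (closure {(⟨y, hys⟩ : ↥s)}) := isIrreducible_singleton.closure
      have hCsub : C ⊆ closure {(⟨y, hys⟩ : ↥s)} := fun c hc => by
        rw [← specializes_iff_mem_closure, subtype_specializes_iff]
        exact hy.trans (hη.specializes ⟨c, hc, rfl⟩)
      exact hC.2 hirr hCsub (subset_closure rfl)
    · show p.base y ∈ Set.range j
      rw [hye]
      exact (hξ.mem_open_set_iff j.isOpenEmbedding.isOpen_range).2
        (by rw [Set.inter_eq_right.2 hjZ]; exact hne)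
  rw [card_irreducibleComponents_open O hOopen hmeet]
  -- the open is the spectrum of the tensor product
  let q : pullback (j ≫ f) g ⟶ pullback f g := (pullbackRightPullbackFstIso f g j).inv ≫ pullback.snd j (pullback.fst f g)
  haveI : IsOpenImmersion q := inferInstanceAs
    (IsOpenImmersion ((pullbackRightPullbackFstIso f g j).inv ≫ pullback.snd j (pullback.fst f g)))
  have hq : Set.range q = p.base ⁻¹' Set.range j := by
    show Set.range ((pullbackRightPullbackFstIso f g j).inv ≫ pullback.snd j (pullback.fst f g)).base = _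
    rw [Scheme.Hom.comp_base, TopCat.coe_comp, Set.range_comp,
      Set.range_eq_univ.2 (show Function.Surjective (pullbackRightPullbackFstIso f g j).inv.base from
        (pullbackRightPullbackFstIso f g j).inv.homeomorph.surjective), Set.image_univ,
      IsOpenImmersion.range_pullbackSnd]
    rfl
  have e₁ : ↥(pullback (j ≫ f) g) ≃ₜ ↥O :=
    (q.isOpenEmbedding.isEmbedding.toHomeomorph.trans (Homeomorph.setCongr hq)).trans
      { toFun := fun y => ⟨⟨y.1, hjZ y.2⟩, y.2⟩
        invFun := fun y => ⟨y.1.1, y.2⟩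
        left_inv := fun y => rfl
        right_inv := fun y => rfl
        continuous_toFun := by fun_prop
        continuous_invFun := by fun_prop }
  have e₂ : ↥(pullback (j ≫ f) g) ≃ₜ PrimeSpectrum (A ⊗[k] AlgebraicClosure k) :=
    ((pullback.congrHom hj rfl).hom.homeomorph.trans
      (pullbackSpecIso k A (AlgebraicClosure k)).hom.homeomorph)
  rw [← card_irreducibleComponents_homeomorph e₁, card_irreducibleComponents_homeomorph e₂,
    card_irreducibleComponents_spec]
  exact card_minimalPrimes_of_bijective (Algebra.TensorProduct.comm k A (AlgebraicClosure k)).toRingEquiv.toRingHom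
    (Algebra.TensorProduct.comm k A (AlgebraicClosure k)).bijective

variable [Finite k]

/-- The data of an irreducible component: an open piece of it. -/
theorem exists_piece [LocallyOfFiniteType f] [QuasiCompact f] {Z : Set X} (hZ : Z ∈ irreducibleComponents X) :
    ∃ (U : X.Opens) (r C : ℕ), (U : Set X) ⊆ Z ∧ (∀ Z' ∈ irreducibleComponents X, Z' ≠ Z → Disjoint Z' (U : Set X)) ∧
      (U : Set X).Nonempty ∧ topologicalKrullDim Z = r ∧
      0 < Nat.card (irreducibleComponents ↥((pullback.fst f (Spec.map (CommRingCat.ofHom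
        (algebraMap k (AlgebraicClosure k))))).base ⁻¹' Z)) ∧
      ∀ (F : Type u) [Field F] [Algebra k F] [Finite F],
        Finite (PtsIn f (U : Set X) F) ∧
        (Nat.card (irreducibleComponents ↥((pullback.fst f (Spec.map (CommRingCat.ofHom
            (algebraMap k (AlgebraicClosure k))))).base ⁻¹' Z)) ∣ Module.finrank k F →
          |(Nat.card (PtsIn f (U : Set X) F) : ℝ) - Nat.card (irreducibleComponents ↥((pullback.fst f
              (Spec.map (CommRingCat.ofHom (algebraMap k (AlgebraicClosure k))))).base ⁻¹' Z)) *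
                (Nat.card F : ℝ) ^ r| ≤ C * ((Nat.card F : ℝ) ^ r / Real.sqrt (Nat.card F))) ∧
        (¬ Nat.card (irreducibleComponents ↥((pullback.fst f (Spec.map (CommRingCat.ofHom
            (algebraMap k (AlgebraicClosure k))))).base ⁻¹' Z)) ∣ Module.finrank k F →
          Nat.card (PtsIn f (U : Set X) F) * Nat.card F ≤ C * Nat.card F ^ r) := by
  classical
  haveI : IsLocallyNoetherian X := LocallyOfFiniteType.isLocallyNoetherian f
  haveI : CompactSpace X := QuasiCompact.compactSpace_of_compactSpace f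
  haveI : IsNoetherian X := {}
  have hfin : (irreducibleComponents X).Finite := NoetherianSpace.finite_irreducibleComponents
  have hclosed : IsClosed (⋃ Z' ∈ irreducibleComponents X \ {Z}, Z') :=
    hfin.sdiff.isClosed_biUnion fun W hW => isClosed_of_mem_irreducibleComponents W hW.1
  obtain ⟨z, hzZ, hz⟩ : ∃ z ∈ Z, z ∉ ⋃ Z' ∈ irreducibleComponents X \ {Z}, Z' := by
    by_contra! hall
    have h := mem_of_subset_sUnion_irreducibleComponents Z hZ _ hfin.sdiff Set.sdiff_subset
      (fun x hx => by
        obtain ⟨W, hW, hxW⟩ := Set.mem_iUnion₂.1 (hall x hx)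
        exact Set.mem_sUnion_of_mem hxW hW)
    exact h.2 rfl
  obtain ⟨U, hU, hzU, hUsub⟩ :=
    exists_isAffineOpen_mem_and_subset (x := z) (U := ⟨_, hclosed.isOpen_compl⟩) hz
  have hdisj : ∀ Z' ∈ irreducibleComponents X, Z' ≠ Z → Disjoint Z' (U : Set X) := fun Z' hZ' hne =>
    Set.disjoint_left.2 fun x hx hxU => hUsub hxU
      (Set.mem_biUnion (s := irreducibleComponents X \ {Z}) (t := fun W => W) ⟨hZ', hne⟩ hx)
  have hUZ : (U : Set X) ⊆ Z := fun x hx => by
    obtain ⟨W, hW, hxW⟩ : ∃ W ∈ irreducibleComponents X, x ∈ W :=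
      Set.mem_sUnion.1 (by rw [sUnion_irreducibleComponents]; trivial)
    by_contra hxZ
    exact Set.disjoint_left.1 (hdisj W hW fun h => hxZ (h ▸ hxW)) hxW hx
  let j : Spec Γ(X, U) ⟶ X := hU.fromSpec
  letI : Algebra k Γ(X, U) := (Spec.preimage (j ≫ f)).hom.toAlgebra
  have hj : j ≫ f = Spec.map (CommRingCat.ofHom (algebraMap k Γ(X, U))) := (Spec.map_preimage _).symm
  have hjU : Set.range j = (U : Set X) := hU.range_fromSpec
  haveI : Algebra.FiniteType k Γ(X, U) := by
    have h : LocallyOfFiniteType (j ≫ f) := inferInstance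
    rw [hj, HasRingHomProperty.Spec_iff (P := @LocallyOfFiniteType)] at h
    exact RingHom.finiteType_algebraMap.1 h
  haveI hirr : IrreducibleSpace (PrimeSpectrum Γ(X, U)) := by
    have hU' : IsIrreducible (U : Set X) :=
      ⟨⟨z, hzU⟩, hZ.1.2.open_subset U.isOpen hUZ⟩
    have h1 : IsIrreducible (j.base ⁻¹' (U : Set X)) :=
      hU'.preimage_of_isPreirreducible_fiber j j.isOpenEmbedding.isOpenMap
        (fun _ => (Set.subsingleton_singleton.preimage j.isOpenEmbedding.injective).isPreirreducible)
        ⟨z, hzU, hjU.symm ▸ hzU⟩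
    rw [show j.base ⁻¹' (U : Set X) = Set.univ from Set.eq_univ_of_forall fun y => hjU.le ⟨y, rfl⟩] at h1
    haveI : PreirreducibleSpace (PrimeSpectrum Γ(X, U)) := ⟨h1.2⟩
    exact ⟨h1.1.elim fun y _ => ⟨y⟩⟩
  haveI : (nilradical Γ(X, U)).IsPrime := PrimeSpectrum.irreducibleSpace_iff_isPrime_nilradical.1 hirr
  obtain ⟨r, C, hr, hpos, hcount⟩ := exists_count (k := k) (Γ(X, U) ⧸ nilradical Γ(X, U))
  have hm : Nat.card (irreducibleComponents ↥((pullback.fst f (Spec.map (CommRingCat.ofHom
      (algebraMap k (AlgebraicClosure k))))).base ⁻¹' Z)) = geomNum k (Γ(X, U) ⧸ nilradical Γ(X, U)) := by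
    rw [← geomNum_reduced]
    exact card_components_preimage f Γ(X, U) j hj (isClosed_of_mem_irreducibleComponents Z hZ) hZ.1
      (hjU.le.trans hUZ) (hjU.symm ▸ ⟨z, hzU⟩)
  -- dimension
  have hdimZ : topologicalKrullDim Z = r := by
    obtain ⟨ξ, hξ⟩ := QuasiSober.sober hZ.1 (isClosed_of_mem_irreducibleComponents Z hZ)
    have hξU : ξ ∈ U := (hξ.mem_open_set_iff U.isOpen).2 ⟨z, hzZ, hzU⟩
    have h1 : topologicalKrullDim Z = ((VarDim.deg f ξ : ℕ∞) : WithBot ℕ∞) := by
      rw [← VarDim.topologicalKrullDim_closure_singleton f ξ, hξ.def]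
    have h2 : topologicalKrullDim (U : Set X) = ((VarDim.deg f ξ : ℕ∞) : WithBot ℕ∞) := by
      rw [VarDim.topologicalKrullDim_opens_eq_iSup_deg f U]
      refine le_antisymm (iSup_le fun x => ?_) (le_iSup_of_le ⟨ξ, hξU⟩ le_rfl)
      exact_mod_cast VarDim.deg_le_of_specializes f (hξ.specializes (hUZ x.2))
    have h3 : topologicalKrullDim (U : Set X) = ringKrullDim Γ(X, U) := by
      rw [← PrimeSpectrum.topologicalKrullDim_eq_ringKrullDim, ← hjU]
      exact (IsHomeomorph.topologicalKrullDim_eq _
        j.isOpenEmbedding.isEmbedding.toHomeomorph.isHomeomorph).symm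
    rw [h1, ← h2, h3, ← hr]
    refine le_antisymm ?_ (ringKrullDim_quotient_le _)
    refine Order.krullDim_le_of_strictMono (fun P : PrimeSpectrum Γ(X, U) =>
      (⟨Ideal.map (Ideal.Quotient.mk (nilradical Γ(X, U))) P.asIdeal,
        Ideal.map_isPrime_of_surjective Ideal.Quotient.mk_surjective
          (by rw [Ideal.mk_ker]; exact nilradical_le_prime P.asIdeal)⟩ :
        PrimeSpectrum (Γ(X, U) ⧸ nilradical Γ(X, U)))) fun P P' hPP => ?_
    refine lt_of_le_of_ne (Ideal.map_mono hPP.le) fun he => hPP.ne (PrimeSpectrum.ext ?_)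
    have h5 := congrArg (Ideal.comap (Ideal.Quotient.mk (nilradical Γ(X, U)))) (congrArg PrimeSpectrum.asIdeal he)
    simpa [Ideal.comap_map_of_surjective _ Ideal.Quotient.mk_surjective, ← RingHom.ker_eq_comap_bot,
      nilradical_le_prime] using h5
  refine ⟨U, r, C, hUZ, hdisj, ⟨z, hzU⟩, hdimZ, hm ▸ hpos, fun F _ _ _ => ?_⟩
  have e : PtsIn f (U : Set X) F ≃ (Γ(X, U) ⧸ nilradical Γ(X, U) →ₐ[k] F) :=
    ((Equiv.subtypeEquivRight fun g => by rw [hjU]).trans (ptsInOpenEquiv f Γ(X, U) j hj F)).trans
      { toFun := fun φ => Ideal.Quotient.liftₐ _ φ fun a ha => (((mem_nilradical.1 ha).map φ)).eq_zero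
        invFun := fun ψ => ψ.comp (Ideal.Quotient.mkₐ k _)
        left_inv := fun φ => AlgHom.ext fun a => rfl
        right_inv := fun ψ => AlgHom.ext fun a => by
          obtain ⟨a, rfl⟩ := Ideal.Quotient.mk_surjective a
          rfl }
  haveI : Finite (Γ(X, U) ⧸ nilradical Γ(X, U) →ₐ[k] F) := by
    obtain ⟨c, hc⟩ := exists_card_algHom_le (k := k) (A := Γ(X, U) ⧸ nilradical Γ(X, U)) r hr.le
    exact (hc F).1
  refine ⟨Finite.of_equiv _ e.symm, ?_⟩
  rw [hm, Nat.card_congr e]
  exact hcount F

end Groth.Agent.LangWeil75
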