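import Mathlib.RingTheory.Polynomial.Resultant.Basic
import Mathlib.RingTheory.Polynomial.GaussLemma
import Mathlib.Algebra.MvPolynomial.Degrees
import Mathlib.Algebra.Polynomial.Bivariate
import Mathlib.Algebra.Polynomial.Identities
import Mathlib.Algebra.Polynomial.Eval.Irreducible
import Mathlib.RingTheory.Polynomial.UniqueFactorization
import Mathlib.LinearAlgebra.Matrix.Rank
import Mathlib.RingTheory.Polynomial.RationalRoot

/-!
The restriction of an irreducible monic equation to a line through a simple zero stays irreducible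
for all directions outside a hypersurface of bounded degree.
-/

noncomputable section

universe u v

namespace Groth.Agent.LangWeil75

open Polynomial

section Degrees

variable {R : Type*} [CommRing R]

theorem natDegree_det_le {n : Type*} [Fintype n] [DecidableEq n] (M : Matrix n n R[X]) (B : ℕ)
    (h : ∀ i j, (M i j).natDegree ≤ B) : M.det.natDegree ≤ Fintype.card n * B := by
  rw [Matrix.det_apply]
  refine natDegree_sum_le_of_forall_le _ _ fun σ _ => ?_
  rw [Units.smul_def, zsmul_eq_mul]
  refine natDegree_mul_le.trans ?_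
  rw [natDegree_intCast, zero_add]
  refine (natDegree_prod_le _ _).trans ((Finset.sum_le_card_nsmul _ _ B fun i _ => h _ _).trans ?_)
  rw [smul_eq_mul, Finset.card_univ]

theorem totalDegree_det_le {σ : Type*} {n : Type*} [Fintype n] [DecidableEq n]
    (M : Matrix n n (MvPolynomial σ R)) (B : ℕ) (h : ∀ i j, (M i j).totalDegree ≤ B) :
    M.det.totalDegree ≤ Fintype.card n * B := by
  rw [Matrix.det_apply]
  refine MvPolynomial.totalDegree_finsetSum_le fun τ _ => ?_
  have h1 : (∏ i, M (τ i) i).totalDegree ≤ Fintype.card n * B := by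
    refine (MvPolynomial.totalDegree_finsetProd _ _).trans
      ((Finset.sum_le_card_nsmul _ _ B fun i _ => h _ _).trans ?_)
    rw [smul_eq_mul, Finset.card_univ]
  rcases Int.units_eq_one_or (Equiv.Perm.sign τ) with hs | hs <;> rw [hs]
  · rwa [one_smul]
  · rwa [Units.neg_smul, one_smul, MvPolynomial.totalDegree_neg]

theorem coeff_coeff_swap (p : R[X][X]) (i j : ℕ) :
    ((Bivariate.swap p).coeff i).coeff j = (p.coeff j).coeff i := by
  induction p using Polynomial.induction_on' with
  | add p q hp hq => simp [hp, hq]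
  | monomial n f =>
    induction f using Polynomial.induction_on' with
    | add p q hp hq => simp only [map_add, coeff_add, hp, hq]
    | monomial m r =>
      rw [Bivariate.swap_monomial_monomial]
      simp only [coeff_monomial]
      split_ifs <;> simp_all [coeff_monomial]

/-- The degree in the inner variable of a factor is at most that of the product. -/
theorem natDegree_coeff_le_of_mul {L : Type*} [Field L] {p q : L[X][X]} (hp : p ≠ 0) (hq : q ≠ 0) {D : ℕ}
    (h : ∀ j, ((p * q).coeff j).natDegree ≤ D) (j : ℕ) : (p.coeff j).natDegree ≤ D := by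
  have h1 : (Bivariate.swap (p * q)).natDegree ≤ D := natDegree_le_iff_coeff_eq_zero.2 fun i hi =>
    Polynomial.ext fun k => by
      rw [coeff_coeff_swap, coeff_zero]
      exact coeff_eq_zero_of_natDegree_lt ((h k).trans_lt hi)
  rw [map_mul, natDegree_mul (by simpa using hp) (by simpa using hq)] at h1
  refine natDegree_le_iff_coeff_eq_zero.2 fun i hi => ?_
  rw [← coeff_coeff_swap, coeff_eq_zero_of_natDegree_lt (by omega : (Bivariate.swap p).natDegree < i), coeff_zero]

end Degrees

variable {L : Type u} [Field L] {r : ℕ}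

/-- The generic line through `a`. -/
def genLine (a : Fin r → L) : MvPolynomial (Fin r) L →+* (MvPolynomial (Fin r) L)[X] :=
  MvPolynomial.eval₂Hom (C.comp MvPolynomial.C) fun i => C (MvPolynomial.C (a i)) + C (MvPolynomial.X i) * X

/-- The line through `a` in direction `u`. -/
def lineMap (a u : Fin r → L) : MvPolynomial (Fin r) L →+* L[X] :=
  MvPolynomial.eval₂Hom C fun i => C (a i) + C (u i) * X

theorem map_genLine (a u : Fin r → L) (p : MvPolynomial (Fin r) L) :
    (genLine a p).map (MvPolynomial.eval u) = lineMap a u p := by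
  refine RingHom.congr_fun (MvPolynomial.ringHom_ext
    (f := (mapRingHom (MvPolynomial.eval u)).comp (genLine a)) (g := lineMap a u) (fun c => ?_) fun i => ?_) p
  · simp [genLine, lineMap]
  · simp [genLine, lineMap]

theorem coeff_zero_genLine (a : Fin r → L) (p : MvPolynomial (Fin r) L) :
    (genLine a p).coeff 0 = MvPolynomial.C (MvPolynomial.eval a p) := by
  refine RingHom.congr_fun (MvPolynomial.ringHom_ext (f := constantCoeff.comp (genLine a))
    (g := MvPolynomial.C.comp (MvPolynomial.eval a)) (fun c => ?_) fun i => ?_) p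
  · simp [genLine]
  · simp [genLine]

theorem totalDegree_coeff_genLine (a : Fin r → L) (p : MvPolynomial (Fin r) L) :
    ∀ n, ((genLine a p).coeff n).totalDegree ≤ n := by
  induction p using MvPolynomial.induction_on with
  | C c =>
    intro n
    simp only [genLine, MvPolynomial.eval₂Hom_C, RingHom.comp_apply, coeff_C]
    split_ifs <;> simp
  | add p q hp hq =>
    intro n
    rw [map_add, coeff_add]
    exact (MvPolynomial.totalDegree_add _ _).trans (max_le (hp n) (hq n))
  | mul_X p i hp =>
    intro n
    rw [map_mul, show genLine a (MvPolynomial.X i) = C (MvPolynomial.C (a i)) + C (MvPolynomial.X i) * X by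
      simp [genLine], mul_add, ← mul_assoc, coeff_add]
    refine (MvPolynomial.totalDegree_add _ _).trans (max_le ?_ ?_)
    · rw [coeff_mul_C]
      refine (MvPolynomial.totalDegree_mul _ _).trans ?_
      rw [MvPolynomial.totalDegree_C, add_zero]
      exact hp n
    · rcases n with - | n
      · simp
      · rw [coeff_mul_X, coeff_mul_C]
        refine (MvPolynomial.totalDegree_mul _ _).trans (add_le_add (hp n) ?_)
        rw [MvPolynomial.totalDegree_X]

theorem natDegree_lineMap_le (a u : Fin r → L) (p : MvPolynomial (Fin r) L) :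
    (lineMap a u p).natDegree ≤ p.totalDegree := by
  rw [lineMap, MvPolynomial.coe_eval₂Hom, MvPolynomial.eval₂_eq]
  refine natDegree_sum_le_of_forall_le _ _ fun d hd => (natDegree_C_mul_le _ _).trans ?_
  refine ((natDegree_prod_le _ _).trans (Finset.sum_le_sum fun i _ => ?_)).trans (MvPolynomial.le_totalDegree hd)
  refine natDegree_pow_le.trans ((Nat.mul_le_mul_left _ ?_).trans (Nat.mul_one _).le)
  exact natDegree_add_le_of_degree_le ((natDegree_C _).trans_le zero_le_one)
    ((natDegree_C_mul_le _ _).trans natDegree_X.le)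

theorem natDegree_genLine_le (a : Fin r → L) (p : MvPolynomial (Fin r) L) :
    (genLine a p).natDegree ≤ p.totalDegree := by
  rw [genLine, MvPolynomial.coe_eval₂Hom, MvPolynomial.eval₂_eq]
  refine natDegree_sum_le_of_forall_le _ _ fun d hd => (natDegree_C_mul_le _ _).trans ?_
  refine ((natDegree_prod_le _ _).trans (Finset.sum_le_sum fun i _ => ?_)).trans (MvPolynomial.le_totalDegree hd)
  refine natDegree_pow_le.trans ((Nat.mul_le_mul_left _ ?_).trans (Nat.mul_one _).le)
  exact natDegree_add_le_of_degree_le ((natDegree_C _).trans_le zero_le_one)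
    ((natDegree_C_mul_le _ _).trans natDegree_X.le)

/-- A truncated branch through a simple zero. -/
theorem exists_branch (a : Fin r → L) (z₀ : L) (h : (MvPolynomial (Fin r) L)[X])
    (h0 : MvPolynomial.eval a (h.eval (MvPolynomial.C z₀)) = 0)
    (h1 : MvPolynomial.eval a ((derivative h).eval (MvPolynomial.C z₀)) ≠ 0) (n : ℕ) :
    ∃ Φ : MvPolynomial (Fin r) L, MvPolynomial.eval a Φ = z₀ ∧
      X ^ (n + 1) ∣ (h.map (genLine a)).eval (genLine a Φ) := by
  set c := MvPolynomial.eval a ((derivative h).eval (MvPolynomial.C z₀))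
  have hval : ∀ (q : (MvPolynomial (Fin r) L)[X]) (Φ : MvPolynomial (Fin r) L), MvPolynomial.eval a Φ = z₀ →
      MvPolynomial.eval a (q.eval Φ) = MvPolynomial.eval a (q.eval (MvPolynomial.C z₀)) := fun q Φ hΦ => by
    rw [← eval_map_apply, ← eval_map_apply, hΦ, MvPolynomial.eval_C]
  induction n with
  | zero =>
    refine ⟨MvPolynomial.C z₀, MvPolynomial.eval_C _, ?_⟩
    rw [zero_add, pow_one, X_dvd_iff, eval_map_apply, coeff_zero_genLine, h0, map_zero]
  | succ n ih =>
    obtain ⟨Φ, hΦ, hdvd⟩ := ih
    have hΦ' : MvPolynomial.eval a (h.eval Φ) = 0 := (hval h Φ hΦ).trans h0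
    refine ⟨Φ - MvPolynomial.C c⁻¹ * h.eval Φ, by rw [map_sub, map_mul, hΦ', mul_zero, sub_zero, hΦ], ?_⟩
    set G := (h.map (genLine a)).eval (genLine a Φ) with hG
    have hGe : genLine a (h.eval Φ) = G := (eval_map_apply _ _).symm
    obtain ⟨k, hk⟩ := binomExpansion (h.map (genLine a)) (genLine a Φ)
      (-(genLine a (MvPolynomial.C c⁻¹) * G))
    rw [map_sub, map_mul, hGe, sub_eq_add_neg, hk, ← hG, derivative_map, eval_map_apply]
    have h2 : X ∣ 1 - genLine a ((derivative h).eval Φ) * genLine a (MvPolynomial.C c⁻¹) := by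
      rw [X_dvd_iff, coeff_sub, mul_coeff_zero, coeff_zero_genLine, coeff_zero_genLine, hval _ Φ hΦ,
        MvPolynomial.eval_C, ← map_mul, mul_inv_cancel₀ h1, map_one, coeff_one_zero, sub_self]
    have h3 : X ∣ G := (dvd_pow_self X n.succ_ne_zero).trans hdvd
    rw [show G + genLine a ((derivative h).eval Φ) * -(genLine a (MvPolynomial.C c⁻¹) * G) +
        k * (-(genLine a (MvPolynomial.C c⁻¹) * G)) ^ 2 =
      G * (1 - genLine a ((derivative h).eval Φ) * genLine a (MvPolynomial.C c⁻¹)) +
        G * G * (k * genLine a (MvPolynomial.C c⁻¹) ^ 2) by ring, pow_succ]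
    exact dvd_add (mul_dvd_mul hdvd h2) ((mul_dvd_mul hdvd h3).mul_right _)

/-- The restriction to the generic line is irreducible. -/
theorem irreducible_map_genLine (a : Fin r → L) {h : (MvPolynomial (Fin r) L)[X]} (hm : h.Monic)
    (hirr : Irreducible h) : Irreducible (h.map (genLine a)) := by
  let β : (MvPolynomial (Fin r) L)[X] →+* MvPolynomial (Fin r) L :=
    eval₂RingHom (MvPolynomial.eval₂Hom MvPolynomial.C fun i => MvPolynomial.X i - MvPolynomial.C (a i)) 1
  refine (hm.map (genLine a)).irreducible_of_irreducible_map β _ ?_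
  rw [Polynomial.map_map]
  suffices hid : β.comp (genLine a) = RingHom.id _ by rw [hid, Polynomial.map_id]; exact hirr
  refine MvPolynomial.ringHom_ext (fun c => ?_) fun i => ?_
  · simp [β, genLine]
  · simp [β, genLine]

/-- The degree bound for the bad directions. -/
def lineConst (D : ℕ) : ℕ := (D + 1) * D * (2 * D * D + 1)

/-- **Good directions at a simple zero.** -/
theorem exists_good_directions {D : ℕ} {h : (MvPolynomial (Fin r) L)[X]} (hm : h.Monic) (hirr : Irreducible h)
    (hd : h.natDegree ≤ D) (hc : ∀ j, (h.coeff j).totalDegree ≤ D) (a : Fin r → L) (z₀ : L)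
    (h0 : MvPolynomial.eval a (h.eval (MvPolynomial.C z₀)) = 0)
    (h1 : MvPolynomial.eval a ((derivative h).eval (MvPolynomial.C z₀)) ≠ 0) :
    ∃ Φ : MvPolynomial (Fin r) L, Φ ≠ 0 ∧ Φ.totalDegree ≤ lineConst D ∧
      ∀ u, MvPolynomial.eval u Φ ≠ 0 → Irreducible (h.map (lineMap a u)) := by
  classical
  set g := h.map (genLine a) with hg
  have hgm : g.Monic := hm.map _
  have hgd : g.natDegree = h.natDegree := hm.natDegree_map _
  have hgc : ∀ j, (g.coeff j).natDegree ≤ D := fun j => by
    rw [hg, coeff_map]
    exact (natDegree_genLine_le a _).trans (hc j)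
  have hgirr : Irreducible g := irreducible_map_genLine a hm hirr
  set d := h.natDegree with hd'
  have hd0 : 0 < d := by
    refine Nat.pos_of_ne_zero fun hz => hirr.not_isUnit ?_
    rw [hm.natDegree_eq_zero.1 hz]
    exact isUnit_one
  set N := 2 * D * D + 1
  obtain ⟨Ψ, hΨ, hdvd⟩ := exists_branch a z₀ h h0 h1 N
  set φ := genLine a Ψ
  let col : Fin (D + 1) × Fin d → (MvPolynomial (Fin r) L)[X] := fun ij =>
    X ^ (ij.1 : ℕ) * genLine a (Ψ ^ (ij.2 : ℕ))
  let M : Matrix (Fin N) (Fin (D + 1) × Fin d) (MvPolynomial (Fin r) L) := fun n ij => (col ij).coeff n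
  have hMdeg : ∀ n ij, (M n ij).totalDegree ≤ N := fun n ij => by
    simp only [M, col, coeff_X_pow_mul']
    split_ifs with hle
    · exact (totalDegree_coeff_genLine a _ _).trans ((Nat.sub_le _ _).trans n.2.le)
    · simp
  -- the polynomial of a vector
  let poly : (Fin (D + 1) × Fin d → MvPolynomial (Fin r) L) → (MvPolynomial (Fin r) L)[X][X] := fun v =>
    ∑ ij : Fin (D + 1) × Fin d, monomial (ij.2 : ℕ) (monomial (ij.1 : ℕ) (v ij))
  have hpoly_coeff : ∀ v (i : Fin (D + 1)) (j : Fin d), ((poly v).coeff j).coeff i = v (i, j) := fun v i j => by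
    simp only [poly, finsetSum_coeff, coeff_monomial]
    rw [Finset.sum_eq_single (i, j)]
    · simp
    · rintro ⟨i', j'⟩ - hne
      rcases eq_or_ne (j' : ℕ) (j : ℕ) with hj | hj
      · rw [if_pos hj, coeff_monomial, if_neg]
        exact fun hi => hne (Prod.ext (Fin.ext hi) (Fin.ext hj))
      · rw [if_neg hj, coeff_zero]
    · simp
  have hinj : ∀ v, M.mulVec v = 0 → v = 0 := by
    intro v hv
    set p := poly v with hp
    have hpd : p.natDegree < d := by
      refine (natDegree_sum_le_of_forall_le _ _ (n := d - 1) fun ij _ => ?_).trans_lt (by omega)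
      exact (natDegree_monomial_le _).trans (by omega)
    have hpc : ∀ j, (p.coeff j).natDegree ≤ D := fun j => by
      simp only [p, poly, finsetSum_coeff, coeff_monomial]
      refine natDegree_sum_le_of_forall_le _ _ fun ij _ => ?_
      split_ifs
      · exact (natDegree_monomial_le _).trans (by omega)
      · simp
    have hpφ : X ^ N ∣ p.eval φ := by
      rw [X_pow_dvd_iff]
      intro n hn
      have := congrFun hv ⟨n, hn⟩
      simp only [Matrix.mulVec, dotProduct, M, col, Pi.zero_apply] at this
      rw [← this]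
      simp only [p, poly, eval_finsetSum, eval_monomial, finsetSum_coeff]
      refine Finset.sum_congr rfl fun ij _ => ?_
      rw [← C_mul_X_pow_eq_monomial, mul_assoc, coeff_C_mul, map_pow, mul_comm]
    by_contra hv0
    have hp0 : p ≠ 0 := fun h' => hv0 (funext fun ij => by
      rw [← hpoly_coeff v ij.1 ij.2, ← hp, h', coeff_zero, coeff_zero]
      rfl)
    -- the resultant
    let A := (MvPolynomial (Fin r) L)[X]
    let Fr := FractionRing A
    have hinjA : Function.Injective (algebraMap A Fr) := IsFractionRing.injective A Fr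
    have hirrK : Irreducible (g.map (algebraMap A Fr)) :=
      (Monic.irreducible_iff_irreducible_map_fraction_map hgm).1 hgirr
    have hcop : IsCoprime (g.map (algebraMap A Fr)) (p.map (algebraMap A Fr)) := by
      refine hirrK.coprime_iff_not_dvd.2 fun hdv => ?_
      have := natDegree_le_of_dvd hdv ((Polynomial.map_ne_zero_iff hinjA).2 hp0)
      rw [natDegree_map_eq_of_injective hinjA, natDegree_map_eq_of_injective hinjA, hgd] at this
      omega
    have hres : resultant g p d p.natDegree ≠ 0 := by
      intro h'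
      have := resultant_ne_zero _ _ hcop
      rw [natDegree_map_eq_of_injective hinjA, natDegree_map_eq_of_injective hinjA, hgd, resultant_map_map,
        h', map_zero] at this
      exact this rfl
    have hresdeg : (resultant g p d p.natDegree).natDegree ≤ 2 * D * D := by
      refine (natDegree_det_le (sylvester g p d p.natDegree) D fun i j => ?_).trans ?_
      · refine j.addCases (fun j₁ => ?_) fun j₁ => ?_ <;>
          simp only [sylvester, Matrix.of_apply, Fin.addCases_left, Fin.addCases_right] <;> split_ifs
        · exact hpc _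
        · simp
        · exact hgc _
        · simp
      · rw [Fintype.card_fin]
        exact Nat.mul_le_mul_right _ (by omega)
    obtain ⟨A₁, B₁, -, -, hAB⟩ :=
      exists_mul_add_mul_eq_C_resultant (m := d) (n := p.natDegree) g p hgd.le le_rfl (Or.inl hd0.ne')
    refine hres (eq_zero_of_dvd_of_natDegree_lt (p := X ^ N) ?_ ?_)
    · have := congrArg (eval φ) hAB
      rw [eval_C, eval_add, eval_mul, eval_mul] at this
      rw [← this]
      exact dvd_add (((pow_dvd_pow X (Nat.le_succ N)).trans hdvd).mul_right _) (hpφ.mul_right _)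
    · rw [natDegree_X_pow]
      exact hresdeg.trans_lt (Nat.lt_succ_self _)
  -- a nonzero minor
  let E := FractionRing (MvPolynomial (Fin r) L)
  let ME := M.map (algebraMap (MvPolynomial (Fin r) L) E)
  have hMEinj : Function.Injective ME.mulVecLin := by
    refine (injective_iff_map_eq_zero _).2 fun v hv => ?_
    obtain ⟨b, hb⟩ := IsLocalization.exist_integer_multiples_of_finite (nonZeroDivisors (MvPolynomial (Fin r) L)) v
    choose w hw using hb
    have hw0 : w = 0 := hinj w (funext fun n => IsFractionRing.injective (MvPolynomial (Fin r) L) E (by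
      rw [RingHom.map_mulVec, show algebraMap (MvPolynomial (Fin r) L) E ∘ w = (b : MvPolynomial (Fin r) L) • v from
        funext hw, Matrix.mulVec_smul, show Matrix.mulVec (M.map (algebraMap _ E)) v = 0 from hv, smul_zero]
      simp))
    funext ij
    have := hw ij
    rw [hw0, Pi.zero_apply, map_zero, eq_comm, Algebra.smul_def, mul_eq_zero] at this
    refine this.resolve_left ?_
    exact (map_ne_zero_iff _ (IsFractionRing.injective _ E)).2 (nonZeroDivisors.ne_zero b.2)
  have hspan : Submodule.span E (Set.range ME.row) = ⊤ := by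
    refine Submodule.eq_top_of_finrank_eq ?_
    rw [← Matrix.rank_eq_finrank_span_row, Matrix.rank, LinearMap.finrank_range_of_inj hMEinj]
  obtain ⟨κ, sel, hsel, hselspan, hselind⟩ := exists_linearIndependent' E ME.row
  let bas : Module.Basis κ E (Fin (D + 1) × Fin d → E) :=
    Module.Basis.mk hselind (by rw [hselspan, hspan])
  haveI : Fintype κ := FiniteDimensional.fintypeBasisIndex bas
  have hcard : Fintype.card κ = Fintype.card (Fin (D + 1) × Fin d) := by
    rw [← Module.finrank_eq_card_basis bas, Module.finrank_fintype_fun_eq_card]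
  let eq := Fintype.equivOfCardEq hcard
  let Bm : Matrix (Fin (D + 1) × Fin d) (Fin (D + 1) × Fin d) (MvPolynomial (Fin r) L) :=
    M.submatrix (fun c => sel (eq.symm c)) id
  have hdet : Bm.det ≠ 0 := by
    intro h'
    have hu : IsUnit (Bm.map (algebraMap (MvPolynomial (Fin r) L) E)) := by
      rw [← Matrix.linearIndependent_rows_iff_isUnit]
      exact hselind.comp eq.symm eq.symm.injective
    rw [Matrix.isUnit_iff_isUnit_det, ← RingHom.mapMatrix_apply, ← RingHom.map_det, h', map_zero] at hu
    exact not_isUnit_zero hu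
  refine ⟨Bm.det, hdet, ?_, fun u hu => ?_⟩
  · refine (totalDegree_det_le Bm N fun i j => hMdeg _ _).trans ?_
    rw [Fintype.card_prod, Fintype.card_fin, Fintype.card_fin]
    exact Nat.mul_le_mul_right _ (Nat.mul_le_mul_left _ hd)
  -- specialisation
  set gu := h.map (lineMap a u) with hgu
  have hgum : gu.Monic := hm.map _
  have hgu' : g.map (mapRingHom (MvPolynomial.eval u)) = gu := by
    rw [hg, hgu, Polynomial.map_map]
    exact congrArg (fun f => h.map f) (RingHom.ext (map_genLine a u))
  set φu := φ.map (MvPolynomial.eval u)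
  have hguφ : X ^ N ∣ gu.eval φu := by
    have := map_dvd (mapRingHom (MvPolynomial.eval u)) ((pow_dvd_pow X (Nat.le_succ N)).trans hdvd)
    rwa [map_pow, coe_mapRingHom, map_X, ← coe_mapRingHom, ← eval_map_apply, hgu'] at this
  have hφu0 : φu.coeff 0 = z₀ := by
    rw [coeff_map, coeff_zero_genLine, hΨ, MvPolynomial.eval_C]
  have hev0 : ∀ q : L[X][X], (q.eval φu).coeff 0 = (q.map (evalRingHom 0)).eval z₀ := fun q => by
    rw [← hφu0, coeff_zero_eq_eval_zero, coeff_zero_eq_eval_zero, ← coe_evalRingHom, ← eval_map_apply]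
  have hsimple : ((derivative gu).eval φu).coeff 0 ≠ 0 := by
    rw [hev0, hgu, derivative_map, Polynomial.map_map]
    have : (evalRingHom (0 : L)).comp (lineMap a u) = MvPolynomial.eval a :=
      MvPolynomial.ringHom_ext (fun c => by simp [lineMap]) fun i => by simp [lineMap]
    rw [this, ← MvPolynomial.eval_C (f := a) z₀, eval_map_apply]
    exact h1
  by_contra hred
  have hne1 : gu ≠ 1 := fun h' => by
    have := congrArg natDegree h'
    rw [hgu, hm.natDegree_map, natDegree_one, ← hd'] at this
    omega
  rw [hgum.irreducible_iff_natDegree] at hred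
  push Not at hred
  obtain ⟨g₁, g₂, hg₁, hg₂, hprod, hn₁, hn₂⟩ := hred hne1
  have hgucoeff : ∀ j, (gu.coeff j).natDegree ≤ D := fun j => by
    rw [hgu, coeff_map]
    exact (natDegree_lineMap_le a u _).trans (hc j)
  have hsum : g₁.natDegree + g₂.natDegree = d := by
    rw [← hg₁.natDegree_mul hg₂, hprod, hgu, hm.natDegree_map]
  -- the factor through the branch
  have key : ∀ q q' : L[X][X], q.Monic → q'.Monic → q * q' = gu → 0 < q'.natDegree → (q'.eval φu).coeff 0 ≠ 0 →
      q.natDegree + q'.natDegree = d → False := by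
    intro q q' hq hq' hqq hpos hnz hsum
    have hN : X ^ N ∣ q.eval φu := by
      refine prime_X.pow_dvd_of_dvd_mul_right N (fun hX => hnz (X_dvd_iff.1 hX)) ?_
      rwa [← eval_mul, hqq]
    have hqc : ∀ j, (q.coeff j).natDegree ≤ D := fun j =>
      natDegree_coeff_le_of_mul hq.ne_zero hq'.ne_zero (fun i => hqq ▸ hgucoeff i) j
    let v : Fin (D + 1) × Fin d → L := fun ij => (q.coeff (ij.2 : ℕ)).coeff (ij.1 : ℕ)
    have hv0 : v ≠ 0 := fun h' => by
      have := congrFun h' (⟨0, D.succ_pos⟩, ⟨q.natDegree, by omega⟩)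
      simp [v, hq.coeff_natDegree] at this
    have hq_eq : q = ∑ ij : Fin (D + 1) × Fin d, monomial (ij.2 : ℕ) (monomial (ij.1 : ℕ) (v ij)) := by
      rw [Fintype.sum_prod_type_right]
      conv_lhs => rw [q.as_sum_range' d (by omega), ← Fin.sum_univ_eq_sum_range (fun j => monomial j (q.coeff j))]
      refine Finset.sum_congr rfl fun j _ => ?_
      refine Eq.trans ?_ (map_sum (monomial (j : ℕ)) (fun i : Fin (D + 1) => monomial (i : ℕ) (v (i, j))) _)
      congr 1
      conv_lhs => rw [(q.coeff j).as_sum_range' (D + 1) (Nat.lt_succ_of_le (hqc j)),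
        ← Fin.sum_univ_eq_sum_range (fun i => monomial i ((q.coeff j).coeff i))]
    have hMv : (M.map (MvPolynomial.eval u)).mulVec v = 0 := funext fun n => by
      refine Eq.trans ?_ ((X_pow_dvd_iff.1 hN) n n.2)
      conv_rhs => rw [hq_eq]
      simp only [Matrix.mulVec, dotProduct, eval_finsetSum, eval_monomial, finsetSum_coeff]
      refine Finset.sum_congr rfl fun ij _ => ?_
      rw [← C_mul_X_pow_eq_monomial, mul_assoc, coeff_C_mul, mul_comm (v ij), Matrix.map_apply]
      simp only [M, col, φu, φ, ← coeff_map, Polynomial.map_mul, Polynomial.map_pow, map_X, map_pow]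
    refine hv0 ?_
    have hBv : (Bm.map (MvPolynomial.eval u)).mulVec v = 0 := funext fun c => congrFun hMv (sel (eq.symm c))
    refine Matrix.eq_zero_of_mulVec_eq_zero ?_ hBv
    rwa [← RingHom.mapMatrix_apply, ← RingHom.map_det]
  rcases eq_or_ne ((g₂.eval φu).coeff 0) 0 with h2 | h2
  · refine key g₂ g₁ hg₂ hg₁ (by rw [mul_comm]; exact hprod) (Nat.pos_of_ne_zero hn₁) (fun h1' => hsimple ?_)
      (by omega)
    rw [← hprod, derivative_mul, eval_add, eval_mul, eval_mul, coeff_add, mul_coeff_zero, mul_coeff_zero, h1', h2,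
      mul_zero, zero_mul, add_zero]
  · exact key g₁ g₂ hg₁ hg₂ hprod (Nat.pos_of_ne_zero hn₂) h2 hsum

end Groth.Agent.LangWeil75
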