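import Groth.Agent.LangWeil75.CurveCount
import Groth.Agent.LangWeil75.Line
import Mathlib.Algebra.MvPolynomial.SchwartzZippel

/-!
The number of rational zeros of an absolutely irreducible monic equation in `r + 1` variables of
bounded degree over a finite field of `q` elements is `q ^ r + O(q ^ (r - 1/2))`.
-/

noncomputable section

universe u v

namespace Groth.Agent.LangWeil75

open Polynomial Groth.Agent.AbscissaLB75

variable {k : Type u} [Field k] [Finite k] {r : ℕ}

/-- The zeros of a nonzero polynomial among the rational points. -/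
theorem card_zeros_mul_le {L : Type v} [Field L] (ι : k →+* L) {Φ : MvPolynomial (Fin r) L} (hΦ : Φ ≠ 0) :
    Nat.card {u : Fin r → k // MvPolynomial.eval (fun i => ι (u i)) Φ = 0} * Nat.card k ≤
      Φ.totalDegree * Nat.card k ^ r := by
  classical
  haveI := Fintype.ofFinite k
  let S : Finset L := Finset.univ.image ι
  have hS : S.card = Nat.card k := by
    rw [Finset.card_image_of_injective _ ι.injective, Finset.card_univ, Nat.card_eq_fintype_card]
  have hqpos : (0 : ℚ≥0) < (Nat.card k : ℚ≥0) := by exact_mod_cast (Nat.card_pos (α := k))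
  have h := MvPolynomial.schwartz_zippel_totalDegree hΦ S
  set T := (Fintype.piFinset fun _ : Fin r => S).filter fun f => MvPolynomial.eval f Φ = 0
  have hle : Nat.card {u : Fin r → k // MvPolynomial.eval (fun i => ι (u i)) Φ = 0} ≤ T.card := by
    rw [← Nat.card_eq_finsetCard]
    refine Nat.card_le_card_of_injective (fun u => ⟨fun i => ι (u.1 i), ?_⟩) fun u u' h => ?_
    · simp only [T, S, Finset.mem_filter, Fintype.mem_piFinset, Finset.mem_image, Finset.mem_univ, true_and]
      exact ⟨fun i => ⟨u.1 i, rfl⟩, u.2⟩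
    · exact Subtype.ext (funext fun i => ι.injective (congrFun (congrArg Subtype.val h) i))
  rw [hS, div_le_div_iff₀ (pow_pos hqpos r) hqpos] at h
  refine (Nat.mul_le_mul_right _ hle).trans ?_
  exact_mod_cast h

/-- A polynomial of small degree has a rational nonzero. -/
theorem exists_eval_ne_zero {L : Type v} [Field L] (ι : k →+* L) {Φ : MvPolynomial (Fin r) L} (hΦ : Φ ≠ 0)
    (h : Φ.totalDegree < Nat.card k) : ∃ u : Fin r → k, MvPolynomial.eval (fun i => ι (u i)) Φ ≠ 0 := by
  by_contra! hall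
  have h1 := card_zeros_mul_le ι hΦ
  rw [Nat.card_congr (Equiv.subtypeUnivEquiv hall), Nat.card_fun, Nat.card_fin, mul_comm] at h1
  exact absurd (Nat.le_of_mul_le_mul_right h1 (pow_pos Nat.card_pos r)) (not_le.2 h)

/-- The rational zeros of an equation. -/
abbrev Pts (h : (MvPolynomial (Fin r) k)[X]) : Type u :=
  {p : (Fin r → k) × k // (h.map (MvPolynomial.eval p.1)).eval p.2 = 0}

theorem card_fibre_le {h : (MvPolynomial (Fin r) k)[X]} (hm : h.Monic) {D : ℕ} (hd : h.natDegree ≤ D)
    (S : (Fin r → k) → Prop) :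
    Nat.card {p : Pts h // S p.1.1} ≤ D * Nat.card {u : Fin r → k // S u} := by
  classical
  haveI := Fintype.ofFinite k
  refine le_trans (Nat.card_le_card_of_injective
    (fun p : {p : Pts h // S p.1.1} => (⟨⟨p.1.1.1, p.2⟩, ⟨p.1.1.2, ?_⟩⟩ :
      Σ u : {u : Fin r → k // S u}, {z : k // z ∈ (h.map (MvPolynomial.eval u.1)).roots.toFinset})) ?_) ?_
  · rw [Multiset.mem_toFinset, mem_roots (hm.map _).ne_zero]
    exact p.1.2
  · rintro ⟨⟨⟨u, z⟩, hp⟩, hS⟩ ⟨⟨⟨u', z'⟩, hp'⟩, hS'⟩ heq
    simp only [Sigma.mk.injEq, Subtype.mk.injEq] at heq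
    obtain ⟨rfl, h2⟩ := heq
    simp only [heq_eq_eq, Subtype.mk.injEq] at h2
    subst h2
    rfl
  · rw [Nat.card_sigma, mul_comm]
    refine (Finset.sum_le_card_nsmul _ _ D fun u _ => ?_).trans ?_
    · rw [Nat.card_eq_finsetCard]
      exact (Multiset.toFinset_card_le _).trans ((card_roots' _).trans (natDegree_map_le.trans hd))
    · rw [Finset.card_univ, smul_eq_mul, Nat.card_eq_fintype_card]

theorem card_pts_le {h : (MvPolynomial (Fin r) k)[X]} (hm : h.Monic) {D : ℕ} (hd : h.natDegree ≤ D) :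
    Nat.card (Pts h) ≤ D * Nat.card k ^ r := by
  have h1 := card_fibre_le hm hd fun _ => True
  rw [Nat.card_congr (Equiv.subtypeUnivEquiv fun _ => trivial),
    Nat.card_congr (Equiv.subtypeUnivEquiv fun _ => trivial), Nat.card_fun, Nat.card_fin] at h1
  exact h1

/-- Extension of the coefficients to the algebraic closure. -/
abbrev toBar (r : ℕ) : MvPolynomial (Fin r) k →+* MvPolynomial (Fin r) (AlgebraicClosure k) :=
  MvPolynomial.map (algebraMap k (AlgebraicClosure k))

theorem lineMap_toBar (a u : Fin r → k) :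
    (lineMap (fun i => algebraMap k (AlgebraicClosure k) (a i)) fun i => algebraMap k (AlgebraicClosure k) (u i)).comp
      (toBar r) = (mapRingHom (algebraMap k (AlgebraicClosure k))).comp (lineMap a u) :=
  MvPolynomial.ringHom_ext (fun c => by simp [lineMap]) fun i => by simp [lineMap]

theorem ev_lineMap (a u : Fin r → k) (h : (MvPolynomial (Fin r) k)[X]) (t z : k) :
    ev t z (h.map (lineMap a u)) = (h.map (MvPolynomial.eval fun i => a i + u i * t)).eval z := by
  rw [ev_apply, eval₂_map, eval_map]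
  congr 1
  exact MvPolynomial.ringHom_ext (fun c => by simp [lineMap]) fun i => by simp [lineMap]

section Equation

variable {D : ℕ} {h a' b' : (MvPolynomial (Fin r) k)[X]} {Δ : MvPolynomial (Fin r) k}
  (hm : h.Monic) (hd : h.natDegree ≤ D) (hc : ∀ j, (h.coeff j).totalDegree ≤ D)
  (hΔ : Δ.totalDegree ≤ D) (hbez : a' * h + b' * derivative h = C Δ)
  (hirr : Irreducible (h.map (toBar r)))

include hm hd hc hΔ hbez hirr

/-- A line through `a` on which the count holds. -/
theorem card_line_genus (a u : Fin r → k) (ha : MvPolynomial.eval a Δ ≠ 0)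
    (hu : Irreducible ((h.map (toBar r)).map
      (lineMap (fun i => algebraMap k (AlgebraicClosure k) (a i)) fun i => algebraMap k (AlgebraicClosure k) (u i)))) :
    ∃ G : ℕ, G ≤ 2 * D ^ 3 + 1 ∧
      ((∀ j, j ≤ h.natDegree → (h.coeff j).totalDegree + j ≤ h.natDegree) →
        2 * (G : ℤ) ≤ ((h.natDegree : ℤ) - 1) * ((h.natDegree : ℤ) - 2)) ∧
      |(Nat.card {P : k × k // ev P.1 P.2 (h.map (lineMap a u)) = 0} : ℝ) - Nat.card k| ≤
        2 * (G : ℝ) * Real.sqrt (Nat.card k) + (4 * D ^ 2 + D + 1 : ℕ) := by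
  obtain ⟨G, hG1, hG2, hG3⟩ := card_zeros_genus (g := h.map (lineMap a u)) (a := a'.map (lineMap a u))
    (b := b'.map (lineMap a u)) (Δ := lineMap a u Δ)
    (hm.map _) ⟨natDegree_map_le.trans hd, fun j => by rw [coeff_map]; exact (natDegree_lineMap_le a u _).trans (hc j)⟩
    (fun h0 => ha (by
      have := congrArg (Polynomial.eval 0) h0
      rw [eval_zero, ← coe_evalRingHom] at this
      rw [← this]
      exact RingHom.congr_fun (MvPolynomial.ringHom_ext (f := MvPolynomial.eval a)
        (g := (evalRingHom 0).comp (lineMap a u)) (fun c => by simp [lineMap]) fun i => by simp [lineMap]) Δ))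
    ((natDegree_lineMap_le a u Δ).trans hΔ)
    (by rw [derivative_map, ← Polynomial.map_mul, ← Polynomial.map_mul, ← Polynomial.map_add, hbez, Polynomial.map_C])
    (by rwa [Polynomial.map_map, ← lineMap_toBar, ← Polynomial.map_map])
  have hn : (h.map (lineMap a u)).natDegree = h.natDegree := hm.natDegree_map _
  refine ⟨G, hG1, fun htot => ?_, hG3⟩
  rw [← hn]
  refine hG2 fun j hj => ?_
  rw [hn] at hj ⊢
  rw [coeff_map]
  exact (Nat.add_le_add_right (natDegree_lineMap_le a u _) j).trans (htot j hj)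

omit hΔ in
/-- Good directions at a point off the discriminant. -/
theorem exists_bad_directions (a : Fin r → k) (ha : MvPolynomial.eval a Δ ≠ 0) :
    ∃ Φ : MvPolynomial (Fin r) (AlgebraicClosure k), Φ ≠ 0 ∧ Φ.totalDegree ≤ lineConst D ∧
      ∀ u : Fin r → k, MvPolynomial.eval (fun i => algebraMap k (AlgebraicClosure k) (u i)) Φ ≠ 0 →
        Irreducible ((h.map (toBar r)).map (lineMap (fun i => algebraMap k (AlgebraicClosure k) (a i))
          fun i => algebraMap k (AlgebraicClosure k) (u i))) := by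
  set ā : Fin r → AlgebraicClosure k := fun i => algebraMap k (AlgebraicClosure k) (a i)
  set H := h.map (toBar r)
  have hHd : H.natDegree = h.natDegree := hm.natDegree_map _
  obtain ⟨z₀, hz₀⟩ : ∃ z, (H.map (MvPolynomial.eval ā)).IsRoot z := by
    refine IsAlgClosed.exists_root _ fun hdeg => hirr.not_isUnit ?_
    have h1 := natDegree_eq_of_degree_eq_some hdeg
    show IsUnit (h.map (toBar r))
    rw [show h.map (toBar r) = 1 from (hm.map (toBar r)).natDegree_eq_zero.1
      (((hm.map (toBar r)).natDegree_map (MvPolynomial.eval ā)).symm.trans h1)]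
    exact isUnit_one
  have hev : ∀ q : (MvPolynomial (Fin r) (AlgebraicClosure k))[X],
      MvPolynomial.eval ā (q.eval (MvPolynomial.C z₀)) = (q.map (MvPolynomial.eval ā)).eval z₀ := fun q => by
    rw [← eval_map_apply, MvPolynomial.eval_C]
  obtain ⟨Φ, h1, h2, h3⟩ := exists_good_directions (hm.map (toBar r)) hirr (hHd.le.trans hd)
    (fun j => by rw [coeff_map]; exact (Finset.sup_mono (MvPolynomial.support_map_subset _ _)).trans (hc j))
    ā z₀ (by rw [hev]; exact hz₀) (by
      rw [hev]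
      intro h0
      have hb := congrArg (fun q => ((q.map (toBar r)).map (MvPolynomial.eval ā)).eval z₀) hbez
      simp only [Polynomial.map_add, Polynomial.map_mul, ← derivative_map, eval_add, eval_mul,
        Polynomial.map_C, eval_C] at hb
      rw [hz₀, show eval z₀ (derivative ((h.map (toBar r)).map (MvPolynomial.eval ā))) = 0 by
        rw [derivative_map]; exact h0, mul_zero, mul_zero, add_zero, MvPolynomial.eval_map] at hb
      refine ha ?_
      have h5 : MvPolynomial.eval₂ (algebraMap k (AlgebraicClosure k)) ā Δ =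
          algebraMap k (AlgebraicClosure k) (MvPolynomial.eval a Δ) :=
        RingHom.congr_fun (MvPolynomial.ringHom_ext (f := MvPolynomial.eval₂Hom (algebraMap k (AlgebraicClosure k)) ā)
          (g := (algebraMap k (AlgebraicClosure k)).comp (MvPolynomial.eval a))
          (fun c => by simp) fun i => by simp [ā]) Δ
      rw [h5] at hb
      exact (map_eq_zero _).1 hb.symm)
  exact ⟨Φ, h1, h2, fun u hu => h3 _ hu⟩

end Equation

/-- The threshold. -/
def threshold (D : ℕ) : ℕ := (curveConst D + D * D + 2) ^ 2 + D + lineConst D + 2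

/-- The constant of the lower order term of the hypersurface count. -/
def lowConst (D : ℕ) : ℕ :=
  2 * (curveConst D + D + lineConst D * (D + 1) + 1) + (D + 1) * threshold D

/-- The constant of the hypersurface count. -/
def hyperConst (D : ℕ) : ℕ := curveConst D + lowConst D

set_option maxHeartbeats 800000 in
/-- **Lang–Weil for absolutely irreducible hypersurfaces in normal form**, from a count on lines. -/
theorem card_pts_sub_of_line {D : ℕ} {h a' b' : (MvPolynomial (Fin r) k)[X]} {Δ : MvPolynomial (Fin r) k}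
    (hm : h.Monic) (hd : h.natDegree ≤ D) (hc : ∀ j, (h.coeff j).totalDegree ≤ D)
    (hΔ0 : Δ ≠ 0) (hΔ : Δ.totalDegree ≤ D) (hbez : a' * h + b' * derivative h = C Δ)
    (hirr : Irreducible (h.map (toBar r))) {Gc Ec : ℕ}
    (hGE : Gc + Ec ≤ curveConst D)
    (hlineBd : ∀ a u : Fin r → k, MvPolynomial.eval a Δ ≠ 0 →
      Irreducible ((h.map (toBar r)).map (lineMap (fun i => algebraMap k (AlgebraicClosure k) (a i))
        fun i => algebraMap k (AlgebraicClosure k) (u i))) →
      |(Nat.card {P : k × k // ev P.1 P.2 (h.map (lineMap a u)) = 0} : ℝ) - Nat.card k| ≤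
        Gc * Real.sqrt (Nat.card k) + Ec) :
    |(Nat.card (Pts h) : ℝ) - (Nat.card k : ℝ) ^ r| ≤
      Gc * ((Nat.card k : ℝ) ^ r / Real.sqrt (Nat.card k)) + lowConst D * ((Nat.card k : ℝ) ^ r / Nat.card k) := by
  classical
  haveI := Fintype.ofFinite k
  set q := Nat.card k with hq
  set s := Real.sqrt (q : ℝ)
  have hq2 : 2 ≤ q := Finite.one_lt_card
  have hs1 : (1 : ℝ) ≤ s := Real.one_le_sqrt.2 (by exact_mod_cast (by omega : 1 ≤ q))
  have hs0 : 0 < s := one_pos.trans_le hs1
  have hss : s * s = q := Real.mul_self_sqrt (Nat.cast_nonneg _)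
  have hqr : (0 : ℝ) ≤ (q : ℝ) ^ r := by positivity
  by_cases hbig : threshold D ≤ q
  swap
  · -- small fields
    have h1 : (Nat.card (Pts h) : ℝ) ≤ D * (q : ℝ) ^ r := by exact_mod_cast card_pts_le hm hd
    have h2 : (0 : ℝ) ≤ Nat.card (Pts h) := Nat.cast_nonneg _
    have h4 : |(Nat.card (Pts h) : ℝ) - (q : ℝ) ^ r| ≤ (D + 1) * (q : ℝ) ^ r := by
      rw [abs_le]
      constructor <;> nlinarith
    refine le_trans ?_ (le_add_of_nonneg_left (by positivity))
    refine h4.trans ?_
    have hq0 : (0 : ℝ) < q := by exact_mod_cast (by omega : 0 < q)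
    rw [← mul_div_assoc, le_div_iff₀ hq0]
    have h5 : ((D : ℝ) + 1) * threshold D ≤ lowConst D := by
      simp only [lowConst]; push_cast
      have : (0 : ℝ) ≤ 2 * ((curveConst D : ℝ) + D + lineConst D * (D + 1) + 1) := by positivity
      linarith
    calc ((D : ℝ) + 1) * (q : ℝ) ^ r * q ≤ ((D : ℝ) + 1) * (q : ℝ) ^ r * threshold D := by
          gcongr; exact (le_of_not_ge hbig)
      _ = ((D : ℝ) + 1) * threshold D * (q : ℝ) ^ r := by ring
      _ ≤ _ := by gcongr
  -- a simple rational point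
  have hqD : D < q := by simp only [threshold] at hbig; omega
  have hqL : lineConst D < q := by simp only [threshold] at hbig; omega
  obtain ⟨a₁, ha₁⟩ : ∃ a : Fin r → k, MvPolynomial.eval a Δ ≠ 0 :=
    exists_eval_ne_zero (RingHom.id k) hΔ0 (hΔ.trans_lt hqD)
  obtain ⟨a, z₀, ha, hz₀⟩ : ∃ (a : Fin r → k) (z₀ : k), MvPolynomial.eval a Δ ≠ 0 ∧
      (h.map (MvPolynomial.eval a)).eval z₀ = 0 := by
    obtain ⟨Φ, hΦ, hΦd, hΦu⟩ := exists_bad_directions hm hd hc hbez hirr a₁ ha₁
    obtain ⟨u, hu⟩ := exists_eval_ne_zero (algebraMap k (AlgebraicClosure k)) hΦ (hΦd.trans_lt hqL)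
    have hcount := (abs_le.1 (hlineBd a₁ u ha₁ (hΦu u hu))).1
    by_contra! hnone
    have hΔu : lineMap a₁ u Δ ≠ 0 := fun h0 => ha₁ (by
      have := congrArg (Polynomial.eval 0) h0
      rw [eval_zero, ← coe_evalRingHom] at this
      rw [← this]
      exact RingHom.congr_fun (MvPolynomial.ringHom_ext (f := MvPolynomial.eval a₁)
        (g := (evalRingHom 0).comp (lineMap a₁ u)) (fun c => by simp [lineMap]) fun i => by simp [lineMap]) Δ)
    have hle : Nat.card {P : k × k // ev P.1 P.2 (h.map (lineMap a₁ u)) = 0} ≤ D * D := by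
      refine le_trans (Nat.card_le_card_of_injective (fun P => (⟨P.1, P.2, ?_⟩ :
        {P : k × k // ev P.1 P.2 (h.map (lineMap a₁ u)) = 0 ∧ (lineMap a₁ u Δ).eval P.1 = 0}))
        fun P P' hPP => Subtype.ext (congrArg (fun Q => Q.1) hPP))
        (card_rootSet_fibre (hm.map _) (natDegree_map_le.trans hd) hΔu ((natDegree_lineMap_le a₁ u Δ).trans hΔ))
      by_contra hne
      refine hnone (fun i => a₁ i + u i * P.1.1) P.1.2 ?_ ((ev_lineMap a₁ u h _ _).symm.trans P.2)
      rwa [← MvPolynomial.ringHom_ext (f := (evalRingHom P.1.1).comp (lineMap a₁ u))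
        (g := MvPolynomial.eval fun i => a₁ i + u i * P.1.1) (fun c => by simp [lineMap])
        (fun i => by simp [lineMap]), RingHom.comp_apply, coe_evalRingHom]
    have h6 : ((curveConst D : ℝ) + D * D + 2) ≤ s := Real.le_sqrt_of_sq_le (by
      have : ((curveConst D + D * D + 2) ^ 2 : ℕ) ≤ q := by simp only [threshold] at hbig; omega
      exact_mod_cast this)
    have h7 : (Nat.card {P : k × k // ev P.1 P.2 (h.map (lineMap a₁ u)) = 0} : ℝ) ≤ (D : ℝ) * D := by
      exact_mod_cast hle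
    have h8 : (Gc : ℝ) + Ec ≤ curveConst D := by exact_mod_cast hGE
    nlinarith
  -- the pencil
  obtain ⟨Φ, hΦ, hΦd, hΦu⟩ := exists_bad_directions hm hd hc hbez hirr a ha
  let Line : (Fin r → k) → Type u := fun u => {P : k × k // P.1 ≠ 0 ∧ ev P.1 P.2 (h.map (lineMap a u)) = 0}
  let e : (Σ u, Line u) ≃ Pts h × {t : k // t ≠ 0} :=
    { toFun := fun x => (⟨(fun i => a i + x.1 i * x.2.1.1, x.2.1.2),
        (ev_lineMap a x.1 h _ _).symm.trans x.2.2.2⟩, ⟨x.2.1.1, x.2.2.1⟩)
      invFun := fun y => ⟨fun i => (y.1.1.1 i - a i) / y.2.1, ⟨(y.2.1, y.1.1.2), y.2.2, by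
        rw [ev_lineMap]
        convert y.1.2 using 4
        funext i
        rw [div_mul_cancel₀ _ y.2.2]
        ring⟩⟩
      left_inv := fun x => by
        obtain ⟨u, ⟨⟨t, z⟩, ht, hz⟩⟩ := x
        have : (fun i => (a i + u i * t - a i) / t) = u := funext fun i => by
          rw [add_sub_cancel_left, mul_div_cancel_right₀ _ ht]
        exact Sigma.subtype_ext this rfl
      right_inv := fun y => by
        refine Prod.ext (Subtype.ext (Prod.ext (funext fun i => ?_) rfl)) rfl
        show a i + (y.1.1.1 i - a i) / y.2.1 * y.2.1 = _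
        rw [div_mul_cancel₀ _ y.2.2]
        ring }
  have hsum : ∑ u, (Nat.card (Line u) : ℝ) = Nat.card (Pts h) * ((q : ℝ) - 1) := by
    rw [← Nat.cast_sum, ← Nat.card_sigma, Nat.card_congr e, Nat.card_prod]
    push_cast
    congr 1
    rw [Nat.card_eq_fintype_card, Fintype.card_subtype_compl, Fintype.card_subtype_eq,
      ← Nat.card_eq_fintype_card, ← hq, Nat.cast_sub (by omega)]
    norm_num
  let bad : Finset (Fin r → k) :=
    Finset.univ.filter fun u => MvPolynomial.eval (fun i => algebraMap k (AlgebraicClosure k) (u i)) Φ = 0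
  have hbad : (bad.card : ℝ) * q ≤ lineConst D * (q : ℝ) ^ r := by
    have h1 := card_zeros_mul_le (algebraMap k (AlgebraicClosure k)) hΦ
    rw [Nat.card_eq_fintype_card, Fintype.card_subtype] at h1
    exact_mod_cast h1.trans (Nat.mul_le_mul_right _ hΦd)
  have hline : ∀ u, |(Nat.card (Line u) : ℝ) - q| ≤
      (Gc * s + Ec + D) + (if u ∈ bad then ((D : ℝ) + 1) * q else 0) := by
    intro u
    have hm' : (h.map (lineMap a u)).Monic := hm.map _
    have hd' : (h.map (lineMap a u)).natDegree ≤ D := natDegree_map_le.trans hd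
    by_cases hu : u ∈ bad
    · rw [if_pos hu]
      have h1 : Nat.card (Line u) ≤ D * q := by
        refine le_trans (Nat.card_le_card_of_injective (fun P : Line u => (⟨P.1.1, ⟨P.1.2, ?_⟩⟩ :
          Σ t : k, {z : k // z ∈ ((h.map (lineMap a u)).map (aeval t).toRingHom).roots.toFinset})) ?_) ?_
        · rw [Multiset.mem_toFinset, mem_roots (hm'.map _).ne_zero, IsRoot, ← ev_eq_eval_map]
          exact P.2.2
        · rintro ⟨⟨t, z⟩, h1⟩ ⟨⟨t', z'⟩, h1'⟩ heq
          simp only [Sigma.mk.injEq] at heq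
          obtain ⟨rfl, h2⟩ := heq
          simp only [heq_eq_eq, Subtype.mk.injEq] at h2
          subst h2
          rfl
        · rw [Nat.card_sigma, mul_comm]
          refine (Finset.sum_le_card_nsmul _ _ D fun t _ => ?_).trans ?_
          · rw [Nat.card_eq_finsetCard]
            exact (Multiset.toFinset_card_le _).trans ((card_roots' _).trans (natDegree_map_le.trans hd'))
          · rw [Finset.card_univ, smul_eq_mul, hq, Nat.card_eq_fintype_card]
      have h1' : (Nat.card (Line u) : ℝ) ≤ D * q := by exact_mod_cast h1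
      have h2 : (0 : ℝ) ≤ Nat.card (Line u) := Nat.cast_nonneg _
      have h3 : (0 : ℝ) ≤ Gc * s + Ec + D := by positivity
      rw [abs_le]
      constructor <;> nlinarith [Nat.cast_nonneg (α := ℝ) q, Nat.cast_nonneg (α := ℝ) D]
    · rw [if_neg hu, add_zero]
      have hu' : MvPolynomial.eval (fun i => algebraMap k (AlgebraicClosure k) (u i)) Φ ≠ 0 := fun h0 =>
        hu (Finset.mem_filter.2 ⟨Finset.mem_univ _, h0⟩)
      have h1 := hlineBd a u ha (hΦu u hu')
      let Z := {P : k × k // ev P.1 P.2 (h.map (lineMap a u)) = 0}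
      have h2 : Nat.card Z ≤ Nat.card (Line u) + D := by
        have h3 : Nat.card {P : Z // P.1.1 = 0} ≤ D := by
          refine le_trans (Nat.card_le_card_of_injective (fun P : {P : Z // P.1.1 = 0} =>
            (⟨P.1.1.2, ?_⟩ : {z : k // z ∈ ((h.map (lineMap a u)).map (aeval (0 : k)).toRingHom).roots.toFinset})) ?_)
            ?_
          · rw [Multiset.mem_toFinset, mem_roots (hm'.map _).ne_zero, IsRoot, ← ev_eq_eval_map]
            have := P.1.2
            rwa [P.2] at this
          · rintro ⟨⟨⟨t, z⟩, hP⟩, ht⟩ ⟨⟨⟨t', z'⟩, hP'⟩, ht'⟩ heq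
            simp only [Subtype.mk.injEq] at heq
            simp only at ht ht'
            subst ht ht' heq
            rfl
          · rw [Nat.card_eq_finsetCard]
            exact (Multiset.toFinset_card_le _).trans ((card_roots' _).trans (natDegree_map_le.trans hd'))
        rw [← Nat.card_congr (Equiv.sumCompl fun P : Z => P.1.1 = 0), Nat.card_sum, add_comm]
        refine add_le_add ?_ h3
        exact Nat.card_le_card_of_injective (fun P => (⟨P.1.1, P.2, P.1.2⟩ : Line u))
          fun P P' h' => Subtype.ext (Subtype.ext (congrArg (fun Q : Line u => Q.1) h'))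
      have h4 : Nat.card (Line u) ≤ Nat.card Z :=
        Nat.card_le_card_of_injective (fun P => (⟨P.1, P.2.2⟩ : Z))
          fun P P' h' => Subtype.ext (congrArg (fun Q : Z => Q.1) h')
      have h2' : (Nat.card Z : ℝ) ≤ Nat.card (Line u) + D := by exact_mod_cast h2
      have h4' : (Nat.card (Line u) : ℝ) ≤ Nat.card Z := by exact_mod_cast h4
      have h5 := abs_le.1 h1
      rw [abs_le]
      constructor <;> linarith [h5.1, h5.2, Nat.cast_nonneg (α := ℝ) D]
  set N := (Nat.card (Pts h) : ℝ)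
  have htotal : |N * ((q : ℝ) - 1) - (q : ℝ) ^ r * q| ≤
      (q : ℝ) ^ r * (Gc * s + Ec + D + lineConst D * (D + 1)) := by
    have h1 : N * ((q : ℝ) - 1) - (q : ℝ) ^ r * q = ∑ u : Fin r → k, ((Nat.card (Line u) : ℝ) - q) := by
      rw [Finset.sum_sub_distrib, hsum, Finset.sum_const, Finset.card_univ, nsmul_eq_mul, Fintype.card_fun,
        Fintype.card_fin, ← Nat.card_eq_fintype_card, ← hq]
      push_cast
      ring
    rw [h1]
    refine (Finset.abs_sum_le_sum_abs _ _).trans ((Finset.sum_le_sum fun u _ => hline u).trans ?_)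
    rw [Finset.sum_add_distrib, Finset.sum_const, Finset.card_univ, nsmul_eq_mul, Finset.sum_ite_mem,
      Finset.univ_inter, Finset.sum_const, nsmul_eq_mul, Fintype.card_fun, Fintype.card_fin,
      ← Nat.card_eq_fintype_card, ← hq]
    push_cast
    nlinarith [mul_le_mul_of_nonneg_right hbad (by positivity : (0 : ℝ) ≤ (D : ℝ) + 1)]
  have hmain : |N - (q : ℝ) ^ r| * ((q : ℝ) - 1) ≤
      (q : ℝ) ^ r * (Gc * s + Ec + D + lineConst D * (D + 1) + 1) := by
    rw [← abs_of_nonneg (show (0 : ℝ) ≤ (q : ℝ) - 1 by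
      have : (1 : ℝ) ≤ q := by exact_mod_cast (by omega : 1 ≤ q)
      linarith), ← abs_mul]
    rw [show (N - (q : ℝ) ^ r) * ((q : ℝ) - 1) = (N * ((q : ℝ) - 1) - (q : ℝ) ^ r * q) + (q : ℝ) ^ r by ring]
    refine (abs_add_le _ _).trans ((add_le_add htotal (abs_of_nonneg hqr).le).trans ?_)
    linarith
  have hq2' : (2 : ℝ) ≤ q := by exact_mod_cast hq2
  set A := |N - (q : ℝ) ^ r|
  have hA0 : 0 ≤ A := abs_nonneg _
  have hsq : s ≤ q := by rw [← hss]; exact le_mul_of_one_le_left hs0.le hs1
  have hlow : 2 * ((Gc : ℝ) + Ec + D + lineConst D * (D + 1) + 1) ≤ lowConst D := by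
    simp only [lowConst]; push_cast
    have h8 : (Gc : ℝ) + Ec ≤ curveConst D := by exact_mod_cast hGE
    have : (0 : ℝ) ≤ ((D : ℝ) + 1) * threshold D := by positivity
    linarith
  set E' : ℝ := Ec + D + lineConst D * (D + 1) + 1
  have hE' : 0 ≤ E' := by positivity
  have hmain' : A * ((q : ℝ) - 1) ≤ (q : ℝ) ^ r * (Gc * s + E') := le_trans hmain (le_of_eq (by simp only [E']; ring))
  have hGc : (0 : ℝ) ≤ Gc := Nat.cast_nonneg _
  have hhalf : A * q ≤ 2 * (A * ((q : ℝ) - 1)) := by
    have h9 : A * 1 ≤ A * ((q : ℝ) - 1) := mul_le_mul_of_nonneg_left (by linarith) hA0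
    linarith [show A * ((q : ℝ) - 1) = A * q - A by ring]
  have hA : A ≤ (q : ℝ) ^ r * (2 * Gc + E') := by
    refine le_of_mul_le_mul_right (hhalf.trans ((mul_le_mul_of_nonneg_left hmain' zero_le_two).trans ?_))
      (by linarith : (0 : ℝ) < q)
    rw [mul_left_comm, mul_assoc ((q : ℝ) ^ r)]
    refine mul_le_mul_of_nonneg_left ?_ hqr
    have h9 : (Gc : ℝ) * s ≤ Gc * q := mul_le_mul_of_nonneg_left hsq hGc
    have h11 : E' * 2 ≤ E' * q := mul_le_mul_of_nonneg_left hq2' hE'
    linarith [add_mul (2 * (Gc : ℝ)) E' q, mul_assoc (2 : ℝ) (Gc : ℝ) q]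
  have hfin : A * q ≤ (Gc : ℝ) * ((q : ℝ) ^ r * s) + lowConst D * (q : ℝ) ^ r := by
    have h10 : (q : ℝ) ^ r * (2 * Gc + 2 * E') ≤ lowConst D * (q : ℝ) ^ r := by
      rw [mul_comm (lowConst D : ℝ)]
      refine mul_le_mul_of_nonneg_left (le_trans ?_ hlow) hqr
      simp only [E']; linarith [Nat.cast_nonneg (α := ℝ) Ec]
    have h12 : A * q = A * ((q : ℝ) - 1) + A := by ring
    rw [h12]
    linarith [mul_add ((q : ℝ) ^ r) ((Gc : ℝ) * s) E', mul_add ((q : ℝ) ^ r) (2 * (Gc : ℝ)) E',
      mul_add ((q : ℝ) ^ r) (2 * (Gc : ℝ)) (2 * E'), mul_left_comm ((q : ℝ) ^ r) (Gc : ℝ) s,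
      mul_left_comm ((q : ℝ) ^ r) (2 : ℝ) E']
  rw [← mul_div_assoc, ← mul_div_assoc, show (Gc : ℝ) * (q : ℝ) ^ r / s = (Gc : ℝ) * ((q : ℝ) ^ r * s) / q by
    rw [← hss]; field_simp, ← add_div, le_div_iff₀ (by linarith : (0 : ℝ) < q)]
  exact hfin

/-- **Lang–Weil for absolutely irreducible hypersurfaces in normal form.** -/
theorem card_pts_sub_le {D : ℕ} {h a' b' : (MvPolynomial (Fin r) k)[X]} {Δ : MvPolynomial (Fin r) k}
    (hm : h.Monic) (hd : h.natDegree ≤ D) (hc : ∀ j, (h.coeff j).totalDegree ≤ D)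
    (hΔ0 : Δ ≠ 0) (hΔ : Δ.totalDegree ≤ D) (hbez : a' * h + b' * derivative h = C Δ)
    (hirr : Irreducible (h.map (toBar r))) :
    |(Nat.card (Pts h) : ℝ) - (Nat.card k : ℝ) ^ r| ≤
      hyperConst D * ((Nat.card k : ℝ) ^ r / Real.sqrt (Nat.card k)) := by
  refine (card_pts_sub_of_line (Gc := 2 * (2 * D ^ 3 + 1)) (Ec := 4 * D ^ 2 + D + 1) hm hd hc hΔ0 hΔ hbez hirr
    (by simp only [curveConst]; omega) fun a u ha hu => ?_).trans ?_
  · obtain ⟨G, hG, -, hcount⟩ := card_line_genus hm hd hc hΔ hbez hirr a u ha hu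
    refine hcount.trans ?_
    have hG' : (G : ℝ) ≤ ((2 * D ^ 3 + 1 : ℕ) : ℝ) := by exact_mod_cast hG
    push_cast at hG' ⊢
    nlinarith [Real.sqrt_nonneg (Nat.card k : ℝ)]
  have hq1 : (1 : ℝ) ≤ Real.sqrt (Nat.card k) :=
    Real.one_le_sqrt.2 (by exact_mod_cast Nat.card_pos (α := k))
  have h1 : (Nat.card k : ℝ) ^ r / Nat.card k ≤ (Nat.card k : ℝ) ^ r / Real.sqrt (Nat.card k) := by
    refine div_le_div_of_nonneg_left (by positivity) (by linarith) ?_
    calc Real.sqrt (Nat.card k : ℝ) ≤ Real.sqrt (Nat.card k) * Real.sqrt (Nat.card k) :=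
          le_mul_of_one_le_left (Real.sqrt_nonneg _) hq1
      _ = Nat.card k := Real.mul_self_sqrt (Nat.cast_nonneg _)
  rw [hyperConst, curveConst]
  push_cast
  have h2 : (0 : ℝ) ≤ (Nat.card k : ℝ) ^ r / Real.sqrt (Nat.card k) := by positivity
  nlinarith [mul_le_mul_of_nonneg_left h1 (Nat.cast_nonneg (α := ℝ) (lowConst D)),
    mul_nonneg (by positivity : (0 : ℝ) ≤ 4 * (D : ℝ) ^ 2 + D + 1) h2]

/-- **Lang–Weil for absolutely irreducible hypersurfaces of bounded total degree**, sharp. -/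
theorem card_pts_sub_sharp {D : ℕ} {h a' b' : (MvPolynomial (Fin r) k)[X]} {Δ : MvPolynomial (Fin r) k}
    (hm : h.Monic) (hd : h.natDegree ≤ D) (hc : ∀ j, (h.coeff j).totalDegree ≤ D)
    (hΔ0 : Δ ≠ 0) (hΔ : Δ.totalDegree ≤ D) (hbez : a' * h + b' * derivative h = C Δ)
    (hirr : Irreducible (h.map (toBar r)))
    (htot : ∀ j, j ≤ h.natDegree → (h.coeff j).totalDegree + j ≤ h.natDegree) :
    |(Nat.card (Pts h) : ℝ) - (Nat.card k : ℝ) ^ r| ≤
      ((h.natDegree : ℝ) - 1) * ((h.natDegree : ℝ) - 2) * ((Nat.card k : ℝ) ^ r / Real.sqrt (Nat.card k)) +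
        lowConst D * ((Nat.card k : ℝ) ^ r / Nat.card k) := by
  obtain ⟨N, hN⟩ : ∃ N, h.natDegree = N + 1 := by
    refine Nat.exists_eq_add_one.2 (Nat.pos_of_ne_zero fun h0 => hirr.not_isUnit ?_)
    rw [(hm.map (toBar r)).natDegree_eq_zero.1 ((hm.natDegree_map _).trans h0)]
    exact isUnit_one
  refine (card_pts_sub_of_line (Gc := N * (N - 1)) (Ec := 4 * D ^ 2 + D + 1) hm hd hc hΔ0 hΔ hbez hirr ?_
    fun a u ha hu => ?_).trans (le_of_eq ?_)
  · simp only [curveConst]
    have h1 : N * (N - 1) ≤ D * D := Nat.mul_le_mul (by omega) (by omega)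
    have h2 : D * D ≤ D ^ 3 + 1 := by
      rcases Nat.eq_zero_or_pos D with h | h
      · simp [h]
      · nlinarith
    omega
  · obtain ⟨G, -, hG, hcount⟩ := card_line_genus hm hd hc hΔ hbez hirr a u ha hu
    refine hcount.trans (add_le_add (mul_le_mul_of_nonneg_right ?_ (Real.sqrt_nonneg _)) le_rfl)
    have h1 := hG htot
    rw [hN] at h1
    push_cast at h1
    rcases Nat.eq_zero_or_pos N with h0 | h0
    · subst h0
      have : G = 0 := by push_cast at h1; omega
      simp [this]
    · have h2 : ((2 * G : ℕ) : ℤ) ≤ ((N * (N - 1) : ℕ) : ℤ) := by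
        push_cast [Nat.cast_sub h0]
        linarith
      exact_mod_cast h2
  · rw [hN]
    rcases Nat.eq_zero_or_pos N with h0 | h0
    · subst h0; simp
    · push_cast [Nat.cast_sub h0]
      ring

end Groth.Agent.LangWeil75
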