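import Groth.Agent.LangWeil75.Equation
import Groth.Agent.LangWeil75.Birational
import Mathlib.RingTheory.AdjoinRoot
import Mathlib.RingTheory.TensorProduct.MvPolynomial
import Mathlib.FieldTheory.PrimitiveElement
import Mathlib.FieldTheory.Minpoly.IsIntegrallyClosed
import Mathlib.FieldTheory.SeparablyGenerated

/-!
Rational points of a finitely generated domain over a finite field.
-/

noncomputable section

universe u v

open scoped TensorProduct

namespace Groth.Agent.LangWeil75

open Polynomial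

variable {k : Type u} [Field k] {r : ℕ}

/-- Points of a hypersurface algebra. -/
def adjoinRootHomEquiv (h : (MvPolynomial (Fin r) k)[X]) (F : Type u) [Field F] [Algebra k F] :
    (AdjoinRoot h →ₐ[k] F) ≃ Pts (h.map (MvPolynomial.map (algebraMap k F))) where
  toFun φ := ⟨(fun i => φ (AdjoinRoot.of h (MvPolynomial.X i)), φ (AdjoinRoot.root h)), by
    have h1 : (MvPolynomial.eval fun i => φ (AdjoinRoot.of h (MvPolynomial.X i))).comp
        (MvPolynomial.map (algebraMap k F)) = (φ : AdjoinRoot h →+* F).comp (AdjoinRoot.of h) :=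
      MvPolynomial.ringHom_ext (fun c => by
        simp only [RingHom.comp_apply, MvPolynomial.map_C, MvPolynomial.eval_C]
        exact (φ.commutes c).symm) fun i => by simp
    rw [Polynomial.map_map, h1, ← Polynomial.map_map, ← RingHom.coe_coe φ, eval_map_apply, eval_map,
      AdjoinRoot.eval₂_root, map_zero]⟩
  invFun p := AdjoinRoot.liftAlgHom h (MvPolynomial.aeval p.1.1) p.1.2 (by
    have h1 : ((MvPolynomial.aeval p.1.1 : MvPolynomial (Fin r) k →ₐ[k] F) : MvPolynomial (Fin r) k →+* F) =
        (MvPolynomial.eval p.1.1).comp (MvPolynomial.map (algebraMap k F)) :=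
      MvPolynomial.ringHom_ext (fun c => by simp) fun i => by simp
    rw [h1, ← eval_map, ← Polynomial.map_map]
    exact p.2)
  left_inv φ := by
    refine AlgHom.ext fun x => ?_
    obtain ⟨q, rfl⟩ := AdjoinRoot.mk_surjective x
    rw [AdjoinRoot.liftAlgHom_mk, ← AdjoinRoot.aeval_eq, aeval_def, ← RingHom.coe_coe φ, hom_eval₂]
    congr 1
    refine MvPolynomial.ringHom_ext (fun c => ?_) fun i => by simp
    simp only [RingHom.coe_coe, MvPolynomial.aeval_C, RingHom.comp_apply]
    exact (φ.commutes c).symm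
  right_inv p := Subtype.ext (Prod.ext (funext fun i => by simp) (by simp))

theorem geomNum_adjoinRoot {h : (MvPolynomial (Fin r) k)[X]} (hm : h.Monic) :
    geomNum k (AdjoinRoot h) = numFactors h := by
  classical
  let T := AlgebraicClosure k
  set H := h.map (toBar r) with hH
  let q : (T ⊗[k] MvPolynomial (Fin r) k)[X] :=
    h.map (Algebra.TensorProduct.includeRight (R := k) (A := T) (B := MvPolynomial (Fin r) k)).toRingHom
  let e₁ := AdjoinRoot.tensorAlgEquiv (R := k) (S := MvPolynomial (Fin r) k) (T := T) h q rfl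
  let e₀ : T ⊗[k] MvPolynomial (Fin r) k ≃+* MvPolynomial (Fin r) T :=
    (MvPolynomial.algebraTensorAlgEquiv k T).toRingEquiv
  have hqH : q.map e₀.toRingHom = H := by
    rw [Polynomial.map_map]
    congr 1
    refine RingHom.ext fun p => ?_
    show MvPolynomial.algebraTensorAlgEquiv k T ((1 : T) ⊗ₜ p) = _
    rw [MvPolynomial.algebraTensorAlgEquiv_tmul, one_smul]
  let e₂ : AdjoinRoot q ≃+* AdjoinRoot H :=
    AdjoinRoot.mapRingEquiv e₀ q H (Associated.of_eq hqH)
  have hcard : Nat.card (minimalPrimes (T ⊗[k] AdjoinRoot h)) = Nat.card (minimalPrimes (AdjoinRoot H)) :=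
    card_minimalPrimes_of_bijective ((e₁.toRingEquiv.trans e₂).toRingHom) (e₁.toRingEquiv.trans e₂).bijective
  have hquot : Nat.card (minimalPrimes (AdjoinRoot H)) = Nat.card (Ideal.span {H}).minimalPrimes := by
    rw [Ideal.minimalPrimes_eq_comap]
    exact (Nat.card_image_of_injective (Ideal.comap_injective_of_surjective _ Ideal.Quotient.mk_surjective) _).symm
  show Nat.card (minimalPrimes (T ⊗[k] AdjoinRoot h)) = _
  rw [hcard, hquot, numFactors]
  obtain ⟨s, hs, hsprod⟩ := exists_monic_factors H (hm.map _)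
  have hprime : ∀ p : (MvPolynomial (Fin r) T)[X], p.Monic → Irreducible p → (Ideal.span {p}).IsPrime :=
    fun p hp hpi => (Ideal.span_singleton_prime hp.ne_zero).2 (irreducible_iff_prime.1 hpi)
  have hex : ∀ Q ∈ (Ideal.span {H}).minimalPrimes, ∃ p, (p.Monic ∧ Irreducible p ∧ p ∣ H) ∧ Q = Ideal.span {p} := by
    intro Q hQ
    have := hQ.isPrime
    have hHQ : s.prod ∈ Q := hsprod ▸ hQ.le (Ideal.mem_span_singleton_self H)
    obtain ⟨p, hp, hpQ⟩ := (Ideal.IsPrime.multiset_prod_mem_iff_exists_mem this s).1 hHQ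
    have hpH : p ∣ H := hsprod ▸ Multiset.dvd_prod hp
    refine ⟨p, ⟨(hs p hp).1, (hs p hp).2, hpH⟩, le_antisymm (hQ.2 ⟨hprime p (hs p hp).1 (hs p hp).2,
      Ideal.span_singleton_le_span_singleton.2 hpH⟩ ((Ideal.span_singleton_le_iff_mem Q).2 hpQ))
      ((Ideal.span_singleton_le_iff_mem Q).2 hpQ)⟩
  have hmin : ∀ p : (MvPolynomial (Fin r) T)[X], p.Monic → Irreducible p → p ∣ H →
      Ideal.span {p} ∈ (Ideal.span {H}).minimalPrimes := by
    intro p hp hpi hpH
    haveI := hprime p hp hpi
    obtain ⟨Q, hQ, hQp⟩ := Ideal.exists_minimalPrimes_le (Ideal.span_singleton_le_span_singleton.2 hpH :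
      Ideal.span {H} ≤ Ideal.span {p})
    obtain ⟨p', ⟨hp', hpi', -⟩, rfl⟩ := hex Q hQ
    rwa [eq_of_monic_of_associated hp hp'
      (hpi.associated_of_dvd hpi' (Ideal.span_singleton_le_span_singleton.1 hQp))]
  refine (Nat.card_eq_of_bijective (fun p : {p : (MvPolynomial (Fin r) (AlgebraicClosure k))[X] //
      p.Monic ∧ Irreducible p ∧ p ∣ H} =>
    (⟨Ideal.span {p.1}, hmin p.1 p.2.1 p.2.2.1 p.2.2.2⟩ : ↥(Ideal.span {H}).minimalPrimes))
    ⟨fun p p' he => Subtype.ext (eq_of_monic_of_associated p.2.1 p'.2.1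
      (Ideal.span_singleton_eq_span_singleton.1 (congrArg Subtype.val he))), fun Q => ?_⟩).symm
  obtain ⟨p, hp, hQ⟩ := hex Q.1 Q.2
  exact ⟨⟨p, hp⟩, Subtype.ext hQ.symm⟩

variable [Finite k]

set_option maxHeartbeats 800000 in
/-- A hypersurface birational to a given finitely generated domain. -/
theorem exists_hypersurface (A : Type u) [CommRing A] [IsDomain A] [Algebra k A] [Algebra.FiniteType k A] :
    ∃ (r : ℕ) (h a' b' : (MvPolynomial (Fin r) k)[X]) (Δ : MvPolynomial (Fin r) k),
      h.Monic ∧ Irreducible h ∧ Δ ≠ 0 ∧ a' * h + b' * derivative h = C Δ ∧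
      ∃ ψ : AdjoinRoot h →ₐ[k] FractionRing A, Function.Injective ψ ∧
        ∀ z, ∃ x y, y ≠ 0 ∧ z = ψ x / ψ y := by
  classical
  let K := FractionRing A
  haveI : Algebra.EssFiniteType k K :=
    have : Algebra.EssFiniteType A K := Algebra.EssFiniteType.of_isLocalization _ (nonZeroDivisors A)
    Algebra.EssFiniteType.comp k A K
  obtain ⟨s, hs, hsep⟩ := exists_isTranscendenceBasis_and_isSeparable_of_perfectField k K
  set r := s.card
  let sv : Fin r → K := fun i => (s.equivFin.symm i : K)
  have hrange : Set.range sv = (s : Set K) := by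
    rw [show sv = Subtype.val ∘ s.equivFin.symm from rfl, Set.range_comp, Equiv.range_eq_univ,
      Set.image_univ, Subtype.range_coe_subtype]
    rfl
  have hind : AlgebraicIndependent k sv := hs.1.comp s.equivFin.symm s.equivFin.symm.injective
  let j : MvPolynomial (Fin r) k →ₐ[k] K := MvPolynomial.aeval sv
  have hj : Function.Injective j := hind
  let : Algebra (MvPolynomial (Fin r) k) K := j.toRingHom.toAlgebra
  have : IsScalarTower k (MvPolynomial (Fin r) k) K := IsScalarTower.of_algebraMap_eq fun c => (j.commutes c).symm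
  have : FaithfulSMul (MvPolynomial (Fin r) k) K := (faithfulSMul_iff_algebraMap_injective _ _).2 hj
  let L := FractionRing (MvPolynomial (Fin r) k)
  let : Algebra L K := FractionRing.liftAlgebra (MvPolynomial (Fin r) k) K
  have : IsScalarTower (MvPolynomial (Fin r) k) L K := FractionRing.isScalarTower_liftAlgebra _ K
  have hjL : ∀ q, algebraMap L K (algebraMap (MvPolynomial (Fin r) k) L q) = j q := fun q =>
    (IsScalarTower.algebraMap_apply (MvPolynomial (Fin r) k) L K q).symm
  let E : IntermediateField k K := IntermediateField.adjoin k (s : Set K)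
  have hkL : ∀ c : k, algebraMap k K c ∈ (algebraMap L K).fieldRange := fun c =>
    ⟨_, (hjL (MvPolynomial.C c)).trans (MvPolynomial.aeval_C _ _)⟩
  have hEL : E.toSubfield ≤ (algebraMap L K).fieldRange := by
    rw [IntermediateField.adjoin_toSubfield, Subfield.closure_le, ← hrange]
    rintro _ (⟨c, rfl⟩ | ⟨i, rfl⟩)
    · exact hkL c
    · exact ⟨_, (hjL (MvPolynomial.X i)).trans (MvPolynomial.aeval_X _ _)⟩
  let rr : L ≃+* (algebraMap L K).fieldRange :=
    RingEquiv.ofBijective (algebraMap L K).rangeRestrictField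
      ⟨RingHom.injective _, (algebraMap L K).rangeRestrictField_bijective.2⟩
  let : Algebra E L := (rr.symm.toRingHom.comp (Subfield.inclusion hEL)).toAlgebra
  have : IsScalarTower E L K := IsScalarTower.of_algebraMap_eq fun x => by
    show (x : K) = algebraMap L K (rr.symm ⟨x.1, hEL x.2⟩)
    exact (congrArg Subtype.val (rr.apply_symm_apply ⟨x.1, hEL x.2⟩)).symm
  have : Algebra.IsSeparable L K := Algebra.isSeparable_tower_top_of_isSeparable E L K
  obtain ⟨gens, hgens⟩ := Algebra.FiniteType.out (R := k) (A := A)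
  let gK : Finset K := gens.image (algebraMap A K)
  have hAK : ∀ y : A, algebraMap A K y ∈ IntermediateField.adjoin L (gK : Set K) := fun y => by
    refine Algebra.adjoin_induction (p := fun y _ => algebraMap A K y ∈ IntermediateField.adjoin L (gK : Set K))
      (fun x hx => IntermediateField.subset_adjoin _ _ (Finset.mem_image_of_mem _ hx)) (fun c => ?_)
      (fun a b _ _ ha hb => by rw [map_add]; exact add_mem ha hb)
      (fun a b _ _ ha hb => by rw [map_mul]; exact mul_mem ha hb) (hgens.ge (Algebra.mem_top (x := y)))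
    rw [← IsScalarTower.algebraMap_apply]
    obtain ⟨l, hl⟩ := hkL c
    rw [← hl]
    exact IntermediateField.algebraMap_mem _ l
  haveI : FiniteDimensional L K := by
    have htop : IntermediateField.adjoin L (gK : Set K) = ⊤ := eq_top_iff.2 fun x _ => by
      obtain ⟨a, b, -, rfl⟩ := IsFractionRing.div_surjective (A := A) x
      exact div_mem (hAK a) (hAK b)
    have := IntermediateField.finiteDimensional_adjoin (K := L) (L := K) (S := (gK : Set K))
      fun x _ => Algebra.IsIntegral.isIntegral x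
    rw [htop] at this
    exact Module.Finite.equiv IntermediateField.topEquiv.toLinearEquiv
  obtain ⟨θ₀, hθ₀⟩ := Field.exists_primitive_element L K
  have halg : IsAlgebraic (MvPolynomial (Fin r) k) θ₀ :=
    (IsFractionRing.isAlgebraic_iff (MvPolynomial (Fin r) k) L K).2 (Algebra.IsIntegral.isIntegral θ₀).isAlgebraic
  obtain ⟨y, hy, hint⟩ := halg.exists_integral_multiple
  set θ := y • θ₀
  have hθ : IntermediateField.adjoin L ({θ} : Set K) = ⊤ := by
    refine top_unique (hθ₀.symm.le.trans (IntermediateField.adjoin_simple_le_iff.2 ?_))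
    have hy' : algebraMap (MvPolynomial (Fin r) k) K y ≠ 0 := (map_ne_zero_iff _ hj).2 hy
    have : θ₀ = algebraMap L K (algebraMap (MvPolynomial (Fin r) k) L y)⁻¹ * θ := by
      rw [map_inv₀, ← IsScalarTower.algebraMap_apply]
      simp only [θ, Algebra.smul_def]
      rw [← mul_assoc, inv_mul_cancel₀ hy', one_mul]
    rw [this]
    exact mul_mem (IntermediateField.algebraMap_mem _ _) (IntermediateField.mem_adjoin_simple_self L θ)
  set h := minpoly (MvPolynomial (Fin r) k) θ with hh
  have hm : h.Monic := minpoly.monic hint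
  have hirr : Irreducible h := minpoly.irreducible hint
  have hmap : minpoly L θ = h.map (algebraMap (MvPolynomial (Fin r) k) L) :=
    minpoly.isIntegrallyClosed_eq_field_fractions' L hint
  -- the Bezout relation
  have hsepL : (h.map (algebraMap (MvPolynomial (Fin r) k) L)).Separable :=
    hmap ▸ Algebra.IsSeparable.isSeparable L θ
  obtain ⟨a₀, b₀, hab⟩ := hsepL
  have hclear : ∀ w : L[X], ∃ c : MvPolynomial (Fin r) k, c ≠ 0 ∧ ∃ w₀ : (MvPolynomial (Fin r) k)[X],
      w₀.map (algebraMap _ L) = C (algebraMap _ L c) * w := fun w => by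
    obtain ⟨c, hc, hcw⟩ := IsLocalization.integerNormalization_spec (nonZeroDivisors (MvPolynomial (Fin r) k)) w
    refine ⟨c, nonZeroDivisors.ne_zero hc, _, hcw.trans ?_⟩
    rw [Algebra.smul_def]
    rfl
  obtain ⟨ca, hca, a₁, ha₁⟩ := hclear a₀
  obtain ⟨cb, hcb, b₁, hb₁⟩ := hclear b₀
  have hinjL : Function.Injective (algebraMap (MvPolynomial (Fin r) k) L) := IsFractionRing.injective _ L
  have hbez : C cb * a₁ * h + C ca * b₁ * derivative h = C (ca * cb) := by
    refine Polynomial.map_injective _ hinjL ?_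
    rw [Polynomial.map_add, Polynomial.map_mul, Polynomial.map_mul, Polynomial.map_mul, Polynomial.map_mul, ha₁, hb₁,
      ← derivative_map, Polynomial.map_C, Polynomial.map_C, Polynomial.map_C, map_mul, C_mul]
    linear_combination (C (algebraMap (MvPolynomial (Fin r) k) L ca) * C (algebraMap (MvPolynomial (Fin r) k) L cb)) * hab
  let ψ : AdjoinRoot h →ₐ[k] K := AdjoinRoot.liftAlgHom h j θ (minpoly.aeval _ θ)
  have hψ : ∀ q, ψ (AdjoinRoot.mk h q) = aeval θ q := fun q => rfl
  have hinj : Function.Injective ψ := (injective_iff_map_eq_zero ψ).2 fun x hx => by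
    obtain ⟨q, rfl⟩ := AdjoinRoot.mk_surjective x
    rw [hψ] at hx
    exact AdjoinRoot.mk_eq_zero.2 (minpoly.isIntegrallyClosed_dvd hint hx)
  refine ⟨r, h, C cb * a₁, C ca * b₁, ca * cb, hm, hirr, mul_ne_zero hca hcb, hbez, ψ, hinj, fun z => ?_⟩
  have hz : z ∈ Algebra.adjoin L ({θ} : Set K) := by
    rw [← IntermediateField.adjoin_simple_toSubalgebra_of_isAlgebraic (Algebra.IsIntegral.isIntegral θ).isAlgebraic,
      hθ]
    trivial
  rw [Algebra.adjoin_singleton_eq_range_aeval] at hz
  obtain ⟨w, rfl⟩ := hz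
  obtain ⟨c, hc, w₀, hw₀⟩ := hclear w
  have hc' : (algebraMap (MvPolynomial (Fin r) k) K) c ≠ 0 := (map_ne_zero_iff _ hj).2 hc
  refine ⟨AdjoinRoot.mk h w₀, AdjoinRoot.mk h (C c), fun h0 => hc' ?_, ?_⟩
  · have := congrArg ψ h0
    rwa [hψ, map_zero, aeval_C] at this
  · rw [hψ, hψ, aeval_C, eq_div_iff hc']
    show aeval θ w * _ = _
    have := congrArg (aeval θ) hw₀
    rw [aeval_map_algebraMap, map_mul, aeval_C, ← IsScalarTower.algebraMap_apply] at this
    rw [this, mul_comm]

/-- **Rational points of a finitely generated domain over a finite field.** -/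
theorem exists_count (A : Type u) [CommRing A] [IsDomain A] [Algebra k A] [Algebra.FiniteType k A] :
    ∃ r C : ℕ, ringKrullDim A = r ∧ 0 < geomNum k A ∧
      ∀ (F : Type u) [Field F] [Algebra k F] [Finite F],
        (geomNum k A ∣ Module.finrank k F →
          |(Nat.card (A →ₐ[k] F) : ℝ) - geomNum k A * (Nat.card F : ℝ) ^ r| ≤
            C * ((Nat.card F : ℝ) ^ r / Real.sqrt (Nat.card F))) ∧
        (¬ geomNum k A ∣ Module.finrank k F → Nat.card (A →ₐ[k] F) * Nat.card F ≤ C * Nat.card F ^ r) := by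
  classical
  obtain ⟨r, h, a', b', Δ, hm, hirr, hΔ, hbez, ψ, hψ, hψf⟩ := exists_hypersurface (k := k) A
  have hdeg : h.degree ≠ 0 := fun hd => hirr.not_isUnit (by
    rw [hm.natDegree_eq_zero.1 (natDegree_eq_of_degree_eq_some hd)]
    exact isUnit_one)
  haveI : IsDomain (AdjoinRoot h) := hψ.isDomain ψ.toRingHom
  haveI : FaithfulSMul (MvPolynomial (Fin r) k) (AdjoinRoot h) :=
    (faithfulSMul_iff_algebraMap_injective _ _).2 (AdjoinRoot.of.injective_of_degree_ne_zero hdeg)
  haveI : Module.Finite (MvPolynomial (Fin r) k) (AdjoinRoot h) :=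
    Module.Finite.of_basis (AdjoinRoot.powerBasis' hm).basis
  haveI : Algebra.FiniteType k (AdjoinRoot h) :=
    Algebra.FiniteType.trans (S := MvPolynomial (Fin r) k) inferInstance inferInstance
  have hdim : ringKrullDim (AdjoinRoot h) = r := by
    rw [VarDim.ringKrullDim_eq_of_isIntegral (R := MvPolynomial (Fin r) k),
      MvPolynomial.ringKrullDim_of_isNoetherianRing, ringKrullDim_eq_zero_of_field, zero_add]
    simp
  let iA : A →ₐ[k] FractionRing A := IsScalarTower.toAlgHom k A (FractionRing A)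
  obtain ⟨hdA, hgA, c, hc⟩ := exists_birational iA ψ (IsFractionRing.injective A (FractionRing A)) hψ
    (fun z => by
      obtain ⟨x, y, hy, rfl⟩ := IsFractionRing.div_surjective (A := A) z
      exact ⟨x, y, nonZeroDivisors.ne_zero hy, rfl⟩) hψf r hdim
  obtain ⟨hpos, C₁, hC₁⟩ := card_pts_equation hm hirr hΔ hbez
  rw [geomNum_adjoinRoot hm] at hgA
  rw [hgA]
  refine ⟨r, C₁ + c, hdA, hpos, fun F _ _ _ => ?_⟩
  have hB : Nat.card (AdjoinRoot h →ₐ[k] F) = Nat.card (Pts (h.map (MvPolynomial.map (algebraMap k F)))) :=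
    Nat.card_congr (adjoinRootHomEquiv h F)
  have hd := hc F
  rw [hB] at hd
  set Q := (Nat.card F : ℝ)
  set N := Nat.card (A →ₐ[k] F)
  set M := Nat.card (Pts (h.map (MvPolynomial.map (algebraMap k F))))
  have hQ1 : (1 : ℝ) ≤ Q := Nat.one_le_cast.2 Nat.card_pos
  obtain ⟨h1, h2⟩ := hC₁ F
  constructor
  · intro hdiv
    have h3 := h1 hdiv
    have hs : 0 < Real.sqrt Q := Real.sqrt_pos.2 (by linarith)
    have hd' : |(N : ℝ) - M| ≤ c * (Q ^ r / Real.sqrt Q) := by
      rw [← mul_div_assoc, le_div_iff₀ hs]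
      refine le_trans (mul_le_mul_of_nonneg_left ?_ (abs_nonneg _)) hd
      calc Real.sqrt Q ≤ Real.sqrt Q * Real.sqrt Q :=
            le_mul_of_one_le_left hs.le (Real.one_le_sqrt.2 hQ1)
        _ = Q := Real.mul_self_sqrt (by linarith)
    calc |(N : ℝ) - numFactors h * Q ^ r| ≤ |(N : ℝ) - M| + |(M : ℝ) - numFactors h * Q ^ r| :=
          abs_sub_le _ _ _
      _ ≤ c * (Q ^ r / Real.sqrt Q) + C₁ * (Q ^ r / Real.sqrt Q) := add_le_add hd' h3
      _ = _ := by push_cast; ring
  · intro hdiv
    have h3 : (M : ℝ) * Q ≤ C₁ * Q ^ r := by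
      have := h2 hdiv
      simp only [Q]
      exact_mod_cast this
    have h4 : (N : ℝ) * Q ≤ ((C₁ + c : ℕ) : ℝ) * Q ^ r := by
      push_cast
      nlinarith [le_abs_self ((N : ℝ) - M)]
    simp only [Q] at h4
    exact_mod_cast h4

end Groth.Agent.LangWeil75
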